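import Mathlib
import Cfsg.Agent.Lib.Helper6.BrauerFeit
import Cfsg.Agent.Lib.Helper24.Osima

set_option autoImplicit false

namespace Cfsg.Agent.Lib.Helper6

open Cfsg Cfsg.Agent.Lib.Helper1 Cfsg.Agent.Lib.Helper24
open scoped ComplexConjugate

universe u

variable {G : Type u} [Group G] [Fintype G] {M : Ideal AlgInt}

/-- The degree of `χ` in terms of the coefficients of `χ̃` and fixed Sylow multiplicities. -/
theorem degree_eq_sum_regCoef' (p : ℕ) [Fact p.Prime] [Fintype (IrrCharacter G)]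
    (P : Sylow p G) [Fintype (P : Subgroup G)] (c : IrrCharacter G → ℕ)
    (hc : ∀ ψ : IrrCharacter G, ∑ x : (P : Subgroup G), (ψ : G → ℂ) x =
      ((p ^ (Nat.card G).factorization p : ℕ) : ℂ) * (c ψ : ℂ))
    (χ : IrrCharacter G) :
    (charDegree (χ : G → ℂ) : ℤ) = ∑ ψ : IrrCharacter G, regCoef p χ ψ * (c ψ : ℤ) := by
  classical
  have h1 : ∑ x : (P : Subgroup G), regPart p (χ : G → ℂ) x = regPart p (χ : G → ℂ) 1 :=
    sum_sylow_regular p P (fun g hg => by unfold regPart; rw [if_pos hg])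
  have h2 : regPart p (χ : G → ℂ) 1 =
      ((p ^ (Nat.card G).factorization p : ℕ) : ℂ) * (charDegree (χ : G → ℂ) : ℂ) := by
    unfold regPart
    rw [if_neg (by rw [orderOf_one]; exact (Fact.out : p.Prime).one_lt.ne' ∘ Nat.dvd_one.mp),
      CharBasic.char_one_nat (IsIrrCharacter.isCharacter χ.2)]
  have h3 : ∑ x : (P : Subgroup G), regPart p (χ : G → ℂ) x =
      ((p ^ (Nat.card G).factorization p : ℕ) : ℂ) *
        ∑ ψ : IrrCharacter G, (regCoef p χ ψ : ℂ) * (c ψ : ℂ) := by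
    have : ∀ x : (P : Subgroup G), regPart p (χ : G → ℂ) x =
        ∑ ψ : IrrCharacter G, (regCoef p χ ψ : ℂ) * (ψ : G → ℂ) x :=
      fun x => regPart_eq_sum p χ x
    rw [Finset.sum_congr rfl (fun x _ => this x), Finset.sum_comm, Finset.mul_sum]
    apply Finset.sum_congr rfl
    intro ψ _
    rw [← Finset.mul_sum, hc ψ]
    ring
  have hpa : ((p ^ (Nat.card G).factorization p : ℕ) : ℂ) ≠ 0 := by
    have := (Fact.out : p.Prime).pos
    have h2 : 0 < p ^ (Nat.card G).factorization p := pow_pos this _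
    exact_mod_cast h2.ne'
  rw [h1, h2] at h3
  have h4 := mul_left_cancel₀ hpa h3
  exact_mod_cast h4

open Classical in
/-- `Σ_{χ ∈ B} χ(1)² = p^a Σ_{χ ∈ B} χ(1) [χ_P, 1_P]`. -/
theorem sum_degree_sq_eq {p : ℕ} [Fact p.Prime] (hM : IsPModular p M) [Fintype (IrrCharacter G)]
    (B : Set (IrrCharacter G)) (hB : IsPBlock M B)
    (P : Sylow p G) [Fintype (P : Subgroup G)] (c : IrrCharacter G → ℕ)
    (hc : ∀ ψ : IrrCharacter G, ∑ x : (P : Subgroup G), (ψ : G → ℂ) x =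
      ((p ^ (Nat.card G).factorization p : ℕ) : ℂ) * (c ψ : ℂ)) :
    ∑ χ ∈ Finset.univ.filter (fun χ : IrrCharacter G => χ ∈ B), charDegree (χ : G → ℂ) ^ 2
      = p ^ (Nat.card G).factorization p *
        ∑ χ ∈ Finset.univ.filter (fun χ : IrrCharacter G => χ ∈ B),
          charDegree (χ : G → ℂ) * c χ := by
  obtain ⟨Ψ, hΨ⟩ : ∃ Ψ : G → ℂ, Ψ = fun g =>
      ∑ χ ∈ Finset.univ.filter (fun χ : IrrCharacter G => χ ∈ B),
        (χ : G → ℂ) 1 * conj ((χ : G → ℂ) g) := ⟨_, rfl⟩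
  have hsing : ∀ g : G, p ∣ orderOf g → Ψ g = 0 := by
    intro g hg
    have h := Osima.weak_block_orth hM B hB 1 g
      (by rw [orderOf_one]; exact (Fact.out : p.Prime).one_lt.ne' ∘ Nat.dvd_one.mp) hg
    rw [Defect.finsum_block_eq_sum] at h
    rw [hΨ]
    exact h
  have h1 := sum_sylow_regular p P hsing
  have h2 : Ψ 1 = ((∑ χ ∈ Finset.univ.filter (fun χ : IrrCharacter G => χ ∈ B),
      charDegree (χ : G → ℂ) ^ 2 : ℕ) : ℂ) := by
    rw [hΨ, Nat.cast_sum]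
    apply Finset.sum_congr rfl
    intro χ _
    rw [CharBasic.char_one_nat (IsIrrCharacter.isCharacter χ.2), Complex.conj_natCast]
    push_cast
    ring
  have h3 : ∑ x : (P : Subgroup G), Ψ x = ((p ^ (Nat.card G).factorization p *
      ∑ χ ∈ Finset.univ.filter (fun χ : IrrCharacter G => χ ∈ B),
        charDegree (χ : G → ℂ) * c χ : ℕ) : ℂ) := by
    rw [hΨ]
    dsimp only
    rw [Finset.sum_comm, Nat.cast_mul, Nat.cast_sum, Finset.mul_sum]
    apply Finset.sum_congr rfl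
    intro χ _
    rw [← Finset.mul_sum, ← map_sum, hc χ, CharBasic.char_one_nat (IsIrrCharacter.isCharacter χ.2),
      map_mul, Complex.conj_natCast, Complex.conj_natCast]
    push_cast
    ring
  rw [h2, h3] at h1
  exact_mod_cast h1.symm

open Classical in
/-- The weighted degree sum `Σ_{χ ∈ B} χ(1) [χ_P, 1_P]` has exact `p`-part `p^s`, `s` the least
exponent of `p` in the degrees of `B`. -/
theorem not_dvd_sum_degree_mult {p : ℕ} [Fact p.Prime] (hM : IsPModular p M)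
    [Fintype (IrrCharacter G)] (B : Set (IrrCharacter G)) (hB : IsPBlock M B)
    (P : Sylow p G) [Fintype (P : Subgroup G)] (c : IrrCharacter G → ℕ)
    (hc : ∀ ψ : IrrCharacter G, ∑ x : (P : Subgroup G), (ψ : G → ℂ) x =
      ((p ^ (Nat.card G).factorization p : ℕ) : ℂ) * (c ψ : ℂ))
    {ψ₀ : IrrCharacter G} (hψ₀ : ψ₀ ∈ B)
    (hmin : ∀ χ ∈ B, (charDegree (ψ₀ : G → ℂ)).factorization p
      ≤ (charDegree (χ : G → ℂ)).factorization p) :
    ¬ p ^ ((charDegree (ψ₀ : G → ℂ)).factorization p + 1) ∣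
      ∑ χ ∈ Finset.univ.filter (fun χ : IrrCharacter G => χ ∈ B),
        charDegree (χ : G → ℂ) * c χ := by
  have hp := (Fact.out : p.Prime)
  have hmax := hM.2.1
  obtain ⟨s, hs⟩ : ∃ s, s = (charDegree (ψ₀ : G → ℂ)).factorization p := ⟨_, rfl⟩
  rw [← hs] at hmin ⊢
  rintro ⟨t, ht⟩
  have hdpos : ∀ χ : IrrCharacter G, charDegree (χ : G → ℂ) ≠ 0 :=
    fun χ => (CharBasic.irr_degree_pos χ.2).ne'
  -- write degrees as p^s e
  have hdiv : ∀ χ ∈ B, p ^ s ∣ charDegree (χ : G → ℂ) := fun χ hχ =>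
    (hp.pow_dvd_iff_le_factorization (hdpos χ)).mpr (hmin χ hχ)
  obtain ⟨e, he⟩ : ∃ e : IrrCharacter G → ℕ, ∀ χ ∈ B, charDegree (χ : G → ℂ) = p ^ s * e χ := by
    refine ⟨fun χ => charDegree (χ : G → ℂ) / p ^ s, fun χ hχ => ?_⟩
    exact (Nat.mul_div_cancel' (hdiv χ hχ)).symm
  have he₀ : ¬ p ∣ e ψ₀ := by
    intro hdvd
    have h1 : p ^ (s + 1) ∣ charDegree (ψ₀ : G → ℂ) := by
      rw [he ψ₀ hψ₀, pow_succ]
      exact Nat.mul_dvd_mul_left _ hdvd
    rw [hp.pow_dvd_iff_le_factorization (hdpos ψ₀)] at h1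
    omega
  obtain ⟨μ, hμ⟩ : ∃ μ : ℂ, μ = (regCoef p ψ₀ ψ₀ : ℂ) / (charDegree (ψ₀ : G → ℂ) : ℂ) :=
    ⟨_, rfl⟩
  have hμR : MemLocalRing M μ := by
    rw [hμ]
    exact regCoef_ratio_memLocalRing hM ψ₀ ψ₀
  -- the degree formula, restricted to B
  have hdeg := degree_eq_sum_regCoef' p P c hc ψ₀
  have hdegC : (charDegree (ψ₀ : G → ℂ) : ℂ)
      = ∑ ψ ∈ Finset.univ.filter (fun χ : IrrCharacter G => χ ∈ B),
          (regCoef p ψ₀ ψ : ℂ) * (c ψ : ℂ) := by
    have h1 : ((charDegree (ψ₀ : G → ℂ) : ℤ) : ℂ)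
        = ((∑ ψ : IrrCharacter G, regCoef p ψ₀ ψ * (c ψ : ℤ) : ℤ) : ℂ) := by rw [hdeg]
    rw [Int.cast_natCast, Int.cast_sum] at h1
    rw [h1, Finset.sum_filter]
    apply Finset.sum_congr rfl
    intro ψ _
    by_cases hψ : ψ ∈ B
    · rw [if_pos hψ]
      push_cast
      ring
    · rw [if_neg hψ, regCoef_eq_zero hM ψ₀ ψ (fun h => hψ (by
        obtain ⟨χ₁, rfl⟩ := hB
        exact sameBlock_trans hmax hψ₀ h))]
      simp
  have hpsC : ((p ^ s : ℕ) : ℂ) ≠ 0 := by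
    have h2 : 0 < p ^ s := pow_pos hp.pos _
    exact_mod_cast h2.ne'
  have key : (e ψ₀ : ℂ) = μ * ((p : ℂ) * (t : ℂ))
      + ∑ ψ ∈ Finset.univ.filter (fun χ : IrrCharacter G => χ ∈ B),
          ((regCoef p ψ₀ ψ : ℂ) / (charDegree (ψ : G → ℂ) : ℂ) - μ) * ((e ψ * c ψ : ℕ) : ℂ) := by
    apply mul_left_cancel₀ hpsC
    have hT : ((p ^ s : ℕ) : ℂ) * ((p : ℂ) * (t : ℂ))
        = ∑ ψ ∈ Finset.univ.filter (fun χ : IrrCharacter G => χ ∈ B),
            (charDegree (ψ : G → ℂ) : ℂ) * (c ψ : ℂ) := by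
      have h1 : ((∑ χ ∈ Finset.univ.filter (fun χ : IrrCharacter G => χ ∈ B),
          charDegree (χ : G → ℂ) * c χ : ℕ) : ℂ) = ((p ^ (s + 1) * t : ℕ) : ℂ) := by rw [ht]
      rw [Nat.cast_sum] at h1
      simp only [Nat.cast_mul] at h1
      rw [h1]
      push_cast
      ring
    have hL : ((p ^ s : ℕ) : ℂ) * (e ψ₀ : ℂ) = (charDegree (ψ₀ : G → ℂ) : ℂ) := by
      rw [he ψ₀ hψ₀]
      push_cast
      ring
    rw [hL, mul_add, ← mul_assoc, mul_comm ((p ^ s : ℕ) : ℂ) μ, mul_assoc, hT, hdegC,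
      Finset.mul_sum, Finset.mul_sum, ← Finset.sum_add_distrib]
    apply Finset.sum_congr rfl
    intro ψ hψ
    have hψB : ψ ∈ B := (Finset.mem_filter.mp hψ).2
    have hd0 : (charDegree (ψ : G → ℂ) : ℂ) ≠ 0 := by exact_mod_cast hdpos ψ
    have hdψ : (charDegree (ψ : G → ℂ) : ℂ) = ((p ^ s : ℕ) : ℂ) * (e ψ : ℂ) := by
      rw [he ψ hψB]
      push_cast
      ring
    obtain ⟨D, hD⟩ : ∃ D : ℂ, D = (charDegree (ψ : G → ℂ) : ℂ) := ⟨_, rfl⟩
    rw [← hD] at hd0 hdψ ⊢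
    have hcast : ((e ψ * c ψ : ℕ) : ℂ) = (e ψ : ℂ) * (c ψ : ℂ) := by push_cast; ring
    rw [hcast]
    symm
    calc μ * (D * (c ψ : ℂ))
          + ((p ^ s : ℕ) : ℂ) * (((regCoef p ψ₀ ψ : ℂ) / D - μ) * ((e ψ : ℂ) * (c ψ : ℂ)))
        = μ * (D * (c ψ : ℂ))
          + ((regCoef p ψ₀ ψ : ℂ) / D - μ) * ((((p ^ s : ℕ) : ℂ) * (e ψ : ℂ)) * (c ψ : ℂ)) := by
          ring
      _ = μ * (D * (c ψ : ℂ)) + ((regCoef p ψ₀ ψ : ℂ) / D - μ) * (D * (c ψ : ℂ)) := by
          rw [← hdψ]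
      _ = (regCoef p ψ₀ ψ : ℂ) * (c ψ : ℂ) := by
          field_simp
          ring
  have hJ : MemLocalIdeal M (e ψ₀ : ℂ) := by
    rw [key]
    apply MemLocalIdeal.add hmax
    · apply MemLocalIdeal.mul_left hmax hμR
      exact MemLocalIdeal.mul_right hmax (memLocalIdeal_natCast_prime hM)
        (memLocalRing_natCast hmax t)
    · apply memLocalIdeal_sum hmax
      intro ψ hψ
      have hψB : ψ ∈ B := (Finset.mem_filter.mp hψ).2
      apply MemLocalIdeal.mul_right hmax _ (memLocalRing_natCast hmax _)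
      rw [hμ]
      exact regCoef_congr hM ψ₀ (Defect.sameBlock_of_mem hmax B hB hψB hψ₀)
  exact he₀ ((memLocalIdeal_natCast_iff hM _).mp hJ)

open Classical in
/-- The exact power of `p` dividing `Σ_{χ ∈ B} χ(1)²` is `p^(2a - d)`. -/
theorem factorization_sum_degree_sq {p : ℕ} [Fact p.Prime] (hM : IsPModular p M)
    (B : Set (IrrCharacter G)) (hB : IsPBlock M B) :
    (∑ᶠ χ ∈ B, charDegree (χ : G → ℂ) ^ 2).factorization p
      = 2 * (Nat.card G).factorization p - blockDefect p B := by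
  haveI hfin : Fintype (IrrCharacter G) := irrFintype
  have hp := (Fact.out : p.Prime)
  have hmax := hM.2.1
  obtain ⟨ψ₀, hψ₀, hd, hmin⟩ := Defect.exists_height_zero p B (Defect.block_nonempty hmax B hB)
  obtain ⟨P⟩ := (inferInstance : Nonempty (Sylow p G))
  haveI : Fintype (P : Subgroup G) := Fintype.ofFinite _
  choose c hc using fun ψ : IrrCharacter G => sum_sylow_char p P
    (IsIrrCharacter.isCharacter ψ.2)
  have h1 := sum_degree_sq_eq hM B hB P c hc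
  have h2 := not_dvd_sum_degree_mult hM B hB P c hc hψ₀ hmin
  have hfs : ∑ᶠ χ ∈ B, charDegree (χ : G → ℂ) ^ 2
      = ∑ χ ∈ Finset.univ.filter (fun χ : IrrCharacter G => χ ∈ B),
          charDegree (χ : G → ℂ) ^ 2 := by
    rw [finsum_mem_def, finsum_eq_sum_of_fintype, Finset.sum_filter]
    apply Finset.sum_congr rfl
    intro χ _
    by_cases hχ : χ ∈ B
    · rw [Set.indicator_of_mem hχ, if_pos hχ]
    · rw [Set.indicator_of_notMem hχ, if_neg hχ]
  rw [hfs, h1]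
  obtain ⟨T, hT⟩ : ∃ T : ℕ, T = ∑ χ ∈ Finset.univ.filter (fun χ : IrrCharacter G => χ ∈ B),
      charDegree (χ : G → ℂ) * c χ := ⟨_, rfl⟩
  rw [← hT] at h2 ⊢
  have hT0 : T ≠ 0 := by
    intro h0
    rw [h0] at h2
    exact h2 (dvd_zero _)
  have hdvd : p ^ (charDegree (ψ₀ : G → ℂ)).factorization p ∣ T := by
    rw [hT]
    apply Finset.dvd_sum
    intro χ hχ
    have hχB : χ ∈ B := (Finset.mem_filter.mp hχ).2
    apply Dvd.dvd.mul_right
    exact (hp.pow_dvd_iff_le_factorization (CharBasic.irr_degree_pos χ.2).ne').mpr (hmin χ hχB)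
  have hTf : T.factorization p = (charDegree (ψ₀ : G → ℂ)).factorization p := by
    have h3 := (hp.pow_dvd_iff_le_factorization hT0).mp hdvd
    have h4 : ¬ (charDegree (ψ₀ : G → ℂ)).factorization p + 1 ≤ T.factorization p :=
      fun h => h2 ((hp.pow_dvd_iff_le_factorization hT0).mpr h)
    omega
  rw [Nat.factorization_mul (pow_pos hp.pos _).ne' hT0, Finsupp.add_apply, hTf,
    hp.factorization_pow, Finsupp.single_eq_same]
  omega

end Cfsg.Agent.Lib.Helper6
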