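import Mathlib
import Cfsg.Prelude.Def_Blocks
import Cfsg.Agent.Lib.Helper6.OddNormal
import Cfsg.Agent.Lib.Helper6.Third
import Cfsg.Agent.Lib.Helper6.RegRes
import Cfsg.Agent.Lib.Helper6.PrincSum
import Cfsg.Agent.Lib.Helper1.CharComplete
import Cfsg.Agent.Lib.Helper1.CharClifford
import Cfsg.Agent.Lib.Helper24.CharBasic

set_option autoImplicit false
set_option linter.unusedSectionVars false
set_option linter.unusedVariables false

/-!
# Principal blocks of a group and of a subgroup

* `sum_mul_ne_zero_of_principal`: a character of the principal block does not kill an invariant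
  function with values in the local ring whose total sum is a unit;
* `exists_principal_over`: every character of the principal block of a subgroup lies under a
  character of the principal block of the group;
* `constituent_principal`: for a normal subgroup, the constituents of the restriction of a
  character of the principal block lie in the principal block;
* `principal_sq_le`, `principal_sq_le_index`: the resulting comparison of the sums of the squares
  of the degrees.
-/

namespace Cfsg.Agent.Lib.Helper6

open Cfsg
open scoped ComplexConjugate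

universe u

variable {G : Type u} [Group G] [Fintype G] {M : Ideal AlgInt}

theorem sum_mul_ne_zero_of_principal {p : ℕ} (hM : IsPModular p M) (χ : IrrCharacter G)
    (hχ : χ ∈ principalBlock M G) {f : G → ℂ} (hf : IsClassFunction G f) (hS : SVal M f)
    (hne : ¬ MemLocalIdeal M (∑ g : G, f g)) : ∑ g : G, f g * (χ : G → ℂ) g ≠ 0 := by
  have hmax := hM.2.1
  have h1 : SameBlock M (fun _ : G => (1 : ℂ)) (χ : G → ℂ) := hχ
  have h2 := omega_sub_memLocalIdeal hmax (fun _ _ => rfl) (irr_isClassFunction χ) h1 hf hS
  intro h0
  apply hne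
  have e1 : omega (fun _ : G => (1 : ℂ)) f = ∑ g : G, f g := by
    unfold omega
    simp
  have e2 : omega (χ : G → ℂ) f = 0 := by
    unfold omega
    rw [h0, zero_div]
  rw [e1, e2, sub_zero] at h2
  exact h2

open Classical in
theorem sum_regular_ne_zero {p : ℕ} (hM : IsPModular p M) (χ : IrrCharacter G)
    (hχ : χ ∈ principalBlock M G) :
    ∑ x ∈ Finset.univ.filter (fun x : G => ¬ p ∣ orderOf x), (χ : G → ℂ) x ≠ 0 := by
  have h := (mem_principalBlock_iff_omega_regInd hM χ).mp hχ
  intro h0
  apply h
  rw [omega_regInd, h0, zero_div]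
  exact memLocalIdeal_zero hM.2.1

open Classical in
theorem sum_regInd_conj (p : ℕ) (χ : G → ℂ) :
    ∑ g : G, (regInd p : G → ℂ) g * conj (χ g)
      = conj (∑ x ∈ Finset.univ.filter (fun x : G => ¬ p ∣ orderOf x), χ x) := by
  rw [map_sum, Finset.sum_filter]
  apply Finset.sum_congr rfl
  intro g _
  unfold regInd
  by_cases hg : p ∣ orderOf g
  · simp [hg]
  · simp [hg]

open Classical in
/-- Every character of the principal block of a subgroup lies under a character of the
principal block of the group. -/
theorem exists_principal_over {p : ℕ} (hM : IsPModular p M) (H : Subgroup G) [Fintype H]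
    (θ : IrrCharacter H) (hθ : θ ∈ principalBlock M H) :
    ∃ χ ∈ principalBlock M G, classInner (fun h : H => (χ : G → ℂ) h) (θ : H → ℂ) ≠ 0 := by
  haveI : Fintype (IrrCharacter G) := Cfsg.Agent.Lib.Helper1.irrFintype
  by_contra hcon
  push_neg at hcon
  have hexp := Cfsg.Agent.Lib.Helper1.classFunction_expansion (isClassFunction_regInd (G := G) p)
  have hc : ∀ χ : IrrCharacter G, χ ∉ principalBlock M G →
      classInner (regInd p : G → ℂ) (χ : G → ℂ) = 0 := by
    intro χ hχ
    unfold classInner
    rw [sum_regInd_conj, sum_regular_eq_zero hM χ hχ, map_zero, mul_zero]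
  have e : ∀ h : H, (regInd p : H → ℂ) h = ∑ χ : IrrCharacter G,
      classInner (regInd p : G → ℂ) (χ : G → ℂ) * (χ : G → ℂ) h := by
    intro h
    have h1 := congrFun (regInd_res H p) h
    have h2 := congrFun hexp (h : G)
    rw [← h1]
    show (regInd p : G → ℂ) (h : G) = _
    rw [h2, Finset.sum_apply]
    rfl
  have hsum : ∑ h : H, (regInd p : H → ℂ) h * conj ((θ : H → ℂ) h) = 0 := by
    calc ∑ h : H, (regInd p : H → ℂ) h * conj ((θ : H → ℂ) h)
        = ∑ h : H, ∑ χ : IrrCharacter G, classInner (regInd p : G → ℂ) (χ : G → ℂ) *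
            ((χ : G → ℂ) h * conj ((θ : H → ℂ) h)) := by
          apply Finset.sum_congr rfl
          intro h _
          rw [e h, Finset.sum_mul]
          apply Finset.sum_congr rfl
          intro χ _
          ring
      _ = ∑ χ : IrrCharacter G, classInner (regInd p : G → ℂ) (χ : G → ℂ) *
            ∑ h : H, ((χ : G → ℂ) h * conj ((θ : H → ℂ) h)) := by
          rw [Finset.sum_comm]
          apply Finset.sum_congr rfl
          intro χ _
          rw [Finset.mul_sum]
      _ = 0 := by
          apply Finset.sum_eq_zero
          intro χ _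
          by_cases hχ : χ ∈ principalBlock M G
          · have h0 := hcon χ hχ
            unfold classInner at h0
            have hH : (Nat.card H : ℂ)⁻¹ ≠ 0 :=
              inv_ne_zero (Nat.cast_ne_zero.mpr Nat.card_pos.ne')
            rw [(mul_eq_zero.mp h0).resolve_left hH, mul_zero]
          · rw [hc χ hχ, zero_mul]
  rw [sum_regInd_conj] at hsum
  have h3 := sum_regular_ne_zero hM θ hθ
  apply h3
  have h4 := congrArg conj hsum
  rw [Complex.conj_conj, map_zero] at h4
  exact h4

open Classical in
/-- For a normal subgroup, the constituents of the restriction of a character of the principal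
block lie in the principal block. -/
theorem constituent_principal {p : ℕ} [Fact p.Prime] (hM : IsPModular p M) (N : Subgroup G)
    [hN : N.Normal] [Fintype N] (χ : IrrCharacter G) (hχ : χ ∈ principalBlock M G)
    (θ : IrrCharacter N)
    (hover : classInner (fun n : N => (χ : G → ℂ) n) (θ : N → ℂ) ≠ 0) :
    θ ∈ principalBlock M N := by
  by_contra hθ
  have hmax := hM.2.1
  have hiff : ∀ g k : G, k * g * k⁻¹ ∈ N ↔ g ∈ N := by
    intro g k
    constructor
    · intro hm
      have h1 := hN.conj_mem _ hm k⁻¹
      have h2 : k⁻¹ * (k * g * k⁻¹) * k⁻¹⁻¹ = g := by group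
      rwa [h2] at h1
    · intro hm
      exact hN.conj_mem _ hm k
  have h1 := omega_supported_normal N χ θ hover (isClassFunction_regInd (G := G) p)
  rw [regInd_res N p, omega_regInd, sum_regular_eq_zero hM θ hθ, zero_div] at h1
  have hne := irr_one_ne_zero χ.2
  have h2 : ∑ g : G, (if g ∈ N then (regInd p : G → ℂ) g else 0) * (χ : G → ℂ) g = 0 := by
    unfold omega at h1
    rcases div_eq_zero_iff.mp h1 with h | h
    · exact h
    · exact absurd h hne
  refine sum_mul_ne_zero_of_principal hM χ hχ ?_ ?_ ?_ h2
  · intro g k
    show (if k * g * k⁻¹ ∈ N then (regInd p : G → ℂ) (k * g * k⁻¹) else 0) =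
      if g ∈ N then (regInd p : G → ℂ) g else 0
    rw [isClassFunction_regInd p g k]
    by_cases hg : g ∈ N
    · rw [if_pos hg, if_pos ((hiff g k).mpr hg)]
    · rw [if_neg hg, if_neg (fun h' => hg ((hiff g k).mp h'))]
  · intro g
    show MemLocalRing M (if g ∈ N then (regInd p : G → ℂ) g else 0)
    by_cases hg : g ∈ N
    · rw [if_pos hg]
      exact sVal_regInd hmax p g
    · rw [if_neg hg]
      exact memLocalRing_zero hmax
  · rw [← Cfsg.Agent.Lib.Helper1.sum_subgroup_eq N (regInd p : G → ℂ)]
    have h3 : ∑ n : N, (regInd p : G → ℂ) (n : G) = ∑ n : N, (regInd p : N → ℂ) n := by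
      apply Finset.sum_congr rfl
      intro n _
      exact congrFun (regInd_res N p) n
    rw [h3]
    have h4 := omega_one_regInd_not_mem (G := N) hM
    unfold omega at h4
    simpa using h4

open Classical in
/-- The multiplicities of the irreducible characters of a subgroup in the restrictions of the
irreducible characters of the group, with the two degree formulas. -/
theorem exists_res_mult (H : Subgroup G) [Fintype H] [Fintype (IrrCharacter G)]
    [Fintype (IrrCharacter H)] :
    ∃ A : IrrCharacter G → IrrCharacter H → ℕ,
      (∀ (χ : IrrCharacter G) (θ : IrrCharacter H),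
        classInner (fun h : H => (χ : G → ℂ) h) (θ : H → ℂ) = (A χ θ : ℂ)) ∧
      (∀ χ : IrrCharacter G, charDegree (χ : G → ℂ)
        = ∑ θ : IrrCharacter H, A χ θ * charDegree (θ : H → ℂ)) ∧
      (∀ θ : IrrCharacter H, ∑ χ : IrrCharacter G, A χ θ * charDegree (χ : G → ℂ)
        = H.index * charDegree (θ : H → ℂ)) := by
  have hres : ∀ χ : IrrCharacter G, IsCharacter H (fun h : H => (χ : G → ℂ) h) := fun χ =>
    Cfsg.Agent.Lib.Helper1.IsCharacter.restrict
      (Cfsg.Agent.Lib.Helper24.CharBasic.isCharacter_of_irr χ.2) H
  choose A hA1 hA2 using fun χ : IrrCharacter G => char_expansion_nat (hres χ)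
  have hdegG : ∀ χ : IrrCharacter G, (χ : G → ℂ) 1 = (charDegree (χ : G → ℂ) : ℂ) := fun χ =>
    Cfsg.Agent.Lib.Helper24.CharBasic.char_one_nat
      (Cfsg.Agent.Lib.Helper24.CharBasic.isCharacter_of_irr χ.2)
  have hdegH : ∀ θ : IrrCharacter H, (θ : H → ℂ) 1 = (charDegree (θ : H → ℂ) : ℂ) := fun θ =>
    Cfsg.Agent.Lib.Helper24.CharBasic.char_one_nat
      (Cfsg.Agent.Lib.Helper24.CharBasic.isCharacter_of_irr θ.2)
  refine ⟨A, hA1, ?_, ?_⟩
  · intro χ
    have h1 : (χ : G → ℂ) 1 = ∑ ξ : IrrCharacter H, (A χ ξ : ℂ) * (ξ : H → ℂ) 1 :=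
      congrFun (hA2 χ) 1
    rw [hdegG χ] at h1
    have h3 : (charDegree (χ : G → ℂ) : ℂ) =
        ((∑ θ, A χ θ * charDegree (θ : H → ℂ) : ℕ) : ℂ) := by
      rw [h1]
      push_cast
      apply Finset.sum_congr rfl
      intro θ _
      rw [hdegH θ]
    exact_mod_cast h3
  · intro θ
    have hcardH : (Nat.card H : ℂ) ≠ 0 := Nat.cast_ne_zero.mpr Nat.card_pos.ne'
    have hcol : ∀ h : H, ∑ χ : IrrCharacter G, (χ : G → ℂ) h * (χ : G → ℂ) 1
        = if h = 1 then (Nat.card G : ℂ) else 0 := by
      intro h
      have h1 := Cfsg.Agent.Lib.Helper1.col_orth (h : G) (1 : G)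
      have h2 : ∀ χ : IrrCharacter G, conj ((χ : G → ℂ) 1) = (χ : G → ℂ) 1 := by
        intro χ
        rw [hdegG χ]
        exact Complex.conj_natCast _
      simp only [h2] at h1
      rw [h1]
      by_cases hh : h = 1
      · rw [if_pos hh, if_pos (by rw [hh]; exact IsConj.refl _)]
        rw [hh]
        have h3 : Subgroup.centralizer ({((1 : H) : G)} : Set G) = ⊤ := by
          ext x
          simp [Subgroup.mem_centralizer_iff]
        rw [h3, Subgroup.card_top]
      · rw [if_neg hh, if_neg]
        intro hc
        apply hh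
        have h4 : (h : G) = 1 := isConj_one_left.mp hc
        exact Subtype.ext h4
    have h5 : ((∑ χ, A χ θ * charDegree (χ : G → ℂ) : ℕ) : ℂ) =
        ((H.index * charDegree (θ : H → ℂ) : ℕ) : ℂ) := by
      push_cast
      calc ∑ χ : IrrCharacter G, (A χ θ : ℂ) * (charDegree (χ : G → ℂ) : ℂ)
          = ∑ χ : IrrCharacter G, (Nat.card H : ℂ)⁻¹ *
              ∑ h : H, conj ((θ : H → ℂ) h) * ((χ : G → ℂ) h * (χ : G → ℂ) 1) := by
            apply Finset.sum_congr rfl
            intro χ _
            rw [← hA1 χ θ, ← hdegG χ]
            unfold classInner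
            rw [mul_assoc, Finset.sum_mul]
            congr 1
            apply Finset.sum_congr rfl
            intro h _
            ring
        _ = (Nat.card H : ℂ)⁻¹ * ∑ h : H, conj ((θ : H → ℂ) h) *
              ∑ χ : IrrCharacter G, ((χ : G → ℂ) h * (χ : G → ℂ) 1) := by
            rw [← Finset.mul_sum, Finset.sum_comm]
            congr 1
            apply Finset.sum_congr rfl
            intro h _
            rw [Finset.mul_sum]
        _ = (Nat.card H : ℂ)⁻¹ * (conj ((θ : H → ℂ) 1) * (Nat.card G : ℂ)) := by
            congr 1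
            rw [Finset.sum_eq_single (1 : H)]
            · rw [hcol 1, if_pos rfl]
            · intro h _ hh
              rw [hcol h, if_neg hh, mul_zero]
            · intro h
              exact absurd (Finset.mem_univ _) h
        _ = (H.index : ℂ) * (charDegree (θ : H → ℂ) : ℂ) := by
            rw [hdegH θ, Complex.conj_natCast, ← Subgroup.card_mul_index H]
            push_cast
            field_simp
    exact_mod_cast h5

open Classical in
/-- The sum of the squares of the degrees in the principal block of a subgroup is at most the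
one of the group. -/
theorem principal_sq_le {p : ℕ} (hM : IsPModular p M) (H : Subgroup G) [Fintype H] :
    ∑ᶠ θ ∈ principalBlock M H, charDegree (θ : H → ℂ) ^ 2
      ≤ ∑ᶠ χ ∈ principalBlock M G, charDegree (χ : G → ℂ) ^ 2 := by
  haveI : Fintype (IrrCharacter G) := Cfsg.Agent.Lib.Helper1.irrFintype
  haveI : Fintype (IrrCharacter H) := Cfsg.Agent.Lib.Helper1.irrFintype
  obtain ⟨A, hA1, hA2, hA3⟩ := exists_res_mult (G := G) H
  rw [fsum_ite, fsum_ite]
  calc ∑ θ : IrrCharacter H, (if θ ∈ principalBlock M H then charDegree (θ : H → ℂ) ^ 2 else 0)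
      ≤ ∑ θ : IrrCharacter H, ∑ χ : IrrCharacter G,
          (if χ ∈ principalBlock M G then
            charDegree (χ : G → ℂ) * (A χ θ * charDegree (θ : H → ℂ)) else 0) := by
        apply Finset.sum_le_sum
        intro θ _
        by_cases hθ : θ ∈ principalBlock M H
        · rw [if_pos hθ]
          obtain ⟨χ₀, hχ₀, hne⟩ := exists_principal_over hM H θ hθ
          have hA0 : 1 ≤ A χ₀ θ := by
            rcases Nat.eq_zero_or_pos (A χ₀ θ) with h0 | h0
            · exfalso
              apply hne
              rw [hA1 χ₀ θ, h0, Nat.cast_zero]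
            · exact h0
          have h1 : A χ₀ θ * charDegree (θ : H → ℂ) ≤ charDegree (χ₀ : G → ℂ) := by
            rw [hA2 χ₀]
            exact Finset.single_le_sum (f := fun θ' => A χ₀ θ' * charDegree (θ' : H → ℂ))
              (fun _ _ => Nat.zero_le _) (Finset.mem_univ θ)
          have h2 : charDegree (θ : H → ℂ) ≤ A χ₀ θ * charDegree (θ : H → ℂ) :=
            Nat.le_mul_of_pos_left _ hA0
          calc charDegree (θ : H → ℂ) ^ 2
              = charDegree (θ : H → ℂ) * charDegree (θ : H → ℂ) := sq _
            _ ≤ charDegree (χ₀ : G → ℂ) * (A χ₀ θ * charDegree (θ : H → ℂ)) :=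
                Nat.mul_le_mul (h2.trans h1) h2
            _ = (if χ₀ ∈ principalBlock M G then
                  charDegree (χ₀ : G → ℂ) * (A χ₀ θ * charDegree (θ : H → ℂ)) else 0) := by
                rw [if_pos hχ₀]
            _ ≤ _ := Finset.single_le_sum (f := fun χ : IrrCharacter G =>
                  (if χ ∈ principalBlock M G then
                    charDegree (χ : G → ℂ) * (A χ θ * charDegree (θ : H → ℂ)) else 0))
                  (fun _ _ => Nat.zero_le _) (Finset.mem_univ χ₀)
        · rw [if_neg hθ]
          exact Nat.zero_le _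
    _ = ∑ χ : IrrCharacter G, (if χ ∈ principalBlock M G then charDegree (χ : G → ℂ) ^ 2 else 0) := by
        rw [Finset.sum_comm]
        apply Finset.sum_congr rfl
        intro χ _
        by_cases hχ : χ ∈ principalBlock M G
        · simp only [if_pos hχ]
          rw [← Finset.mul_sum, ← hA2 χ, sq]
        · simp only [if_neg hχ]
          exact Finset.sum_const_zero

open Classical in
/-- For a normal subgroup, the sum of the squares of the degrees in the principal block of the
group is at most the index times the one of the subgroup. -/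
theorem principal_sq_le_index {p : ℕ} [Fact p.Prime] (hM : IsPModular p M) (H : Subgroup G)
    [hH : H.Normal] [Fintype H] :
    ∑ᶠ χ ∈ principalBlock M G, charDegree (χ : G → ℂ) ^ 2
      ≤ H.index * ∑ᶠ θ ∈ principalBlock M H, charDegree (θ : H → ℂ) ^ 2 := by
  haveI : Fintype (IrrCharacter G) := Cfsg.Agent.Lib.Helper1.irrFintype
  haveI : Fintype (IrrCharacter H) := Cfsg.Agent.Lib.Helper1.irrFintype
  obtain ⟨A, hA1, hA2, hA3⟩ := exists_res_mult (G := G) H
  rw [fsum_ite, fsum_ite]
  calc ∑ χ : IrrCharacter G, (if χ ∈ principalBlock M G then charDegree (χ : G → ℂ) ^ 2 else 0)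
      ≤ ∑ χ : IrrCharacter G, ∑ θ : IrrCharacter H,
          (if θ ∈ principalBlock M H then
            charDegree (θ : H → ℂ) * (A χ θ * charDegree (χ : G → ℂ)) else 0) := by
        apply Finset.sum_le_sum
        intro χ _
        by_cases hχ : χ ∈ principalBlock M G
        · rw [if_pos hχ, sq]
          nth_rewrite 1 [hA2 χ]
          rw [Finset.sum_mul]
          apply Finset.sum_le_sum
          intro θ _
          by_cases hθ : θ ∈ principalBlock M H
          · rw [if_pos hθ]
            exact le_of_eq (by ring)
          · rw [if_neg hθ]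
            have h0 : A χ θ = 0 := by
              by_contra hne
              apply hθ
              apply constituent_principal hM H χ hχ θ
              rw [hA1 χ θ]
              exact Nat.cast_ne_zero.mpr hne
            rw [h0, zero_mul, zero_mul]
        · rw [if_neg hχ]
          exact Nat.zero_le _
    _ = H.index * ∑ θ : IrrCharacter H,
          (if θ ∈ principalBlock M H then charDegree (θ : H → ℂ) ^ 2 else 0) := by
        rw [Finset.sum_comm, Finset.mul_sum]
        apply Finset.sum_congr rfl
        intro θ _
        by_cases hθ : θ ∈ principalBlock M H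
        · simp only [if_pos hθ]
          rw [← Finset.mul_sum, hA3 θ, sq]
          ring
        · simp only [if_neg hθ]
          rw [Finset.sum_const_zero, mul_zero]

end Cfsg.Agent.Lib.Helper6
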