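import Mathlib
import Cfsg.Prelude.Def_Blocks
import Cfsg.Agent.Lib.Helper6.OddNormal
import Cfsg.Agent.Lib.Helper6.Third
import Cfsg.Agent.Lib.Helper6.PrincCover

set_option autoImplicit false
set_option linter.unusedSectionVars false
set_option linter.unusedVariables false

/-!
# The principal block of a central product over a `p`-group

* `exists_pow_parts`: the `p`-part and the `p'`-part of an element as powers;
* `cconv_regInd_central_product`: for a central product `G = U₁ U₂` with `U₁ ∩ U₂` a `p`-group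
  the indicator of the `p`-regular elements of `G` is the convolution of those of the factors;
* `mem_principalBlock_central_product`.
-/

namespace Cfsg.Agent.Lib.Helper6

open Cfsg
open scoped ComplexConjugate

universe u

variable {G : Type u} [Group G]

theorem exists_pow_parts [Finite G] {p : ℕ} (hp : p.Prime) (g : G) :
    ∃ c d : ℕ, g ^ c * g ^ d = g ∧ (∃ k : ℕ, orderOf (g ^ c) = p ^ k) ∧
      ¬ p ∣ orderOf (g ^ d) := by
  have hn : 0 < orderOf g := orderOf_pos g
  obtain ⟨k, m, hm, hkm⟩ := Nat.exists_eq_pow_mul_and_not_dvd hn.ne' p hp.ne_one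
  have hcop : Nat.Coprime (p ^ k) m :=
    Nat.Coprime.pow_left k ((Nat.Prime.coprime_iff_not_dvd hp).mpr hm)
  obtain ⟨c, hc1, hc2⟩ := Nat.chineseRemainder hcop 1 0
  obtain ⟨d, hd1, hd2⟩ := Nat.chineseRemainder hcop 0 1
  refine ⟨c, d, ?_, ?_, ?_⟩
  · rw [← pow_add]
    have h1 : g ^ (c + d) = g ^ 1 := by
      rw [pow_eq_pow_iff_modEq, hkm]
      apply (Nat.modEq_and_modEq_iff_modEq_mul hcop).mp
      constructor
      · have := hc1.add hd1
        simpa using this
      · have := hc2.add hd2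
        simpa using this
    rw [h1, pow_one]
  · have h1 : (g ^ c) ^ (p ^ k) = 1 := by
      rw [← pow_mul]
      apply orderOf_dvd_iff_pow_eq_one.mp
      rw [hkm]
      have h2 : m ∣ c := (Nat.modEq_zero_iff_dvd).mp hc2
      obtain ⟨q, hq⟩ := h2
      exact ⟨q, by rw [hq]; ring⟩
    obtain ⟨j, -, hj⟩ := (Nat.dvd_prime_pow hp).mp (orderOf_dvd_of_pow_eq_one h1)
    exact ⟨j, hj⟩
  · intro hdvd
    have h1 : (g ^ d) ^ m = 1 := by
      rw [← pow_mul]
      apply orderOf_dvd_iff_pow_eq_one.mp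
      rw [hkm]
      have h2 : p ^ k ∣ d := (Nat.modEq_zero_iff_dvd).mp hd1
      obtain ⟨q, hq⟩ := h2
      exact ⟨q, by rw [hq]; ring⟩
    exact hm (hdvd.trans (orderOf_dvd_of_pow_eq_one h1))

theorem regular_mul_of_commute {p : ℕ} (hp : p.Prime) {a b : G} (hab : Commute a b)
    (ha : ¬ p ∣ orderOf a) (hb : ¬ p ∣ orderOf b) : ¬ p ∣ orderOf (a * b) := by
  intro h
  have h1 := hab.orderOf_mul_dvd_lcm
  have h2 : p ∣ orderOf a * orderOf b := (h.trans h1).trans (Nat.lcm_dvd_mul _ _)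
  rcases (Nat.Prime.dvd_mul hp).mp h2 with h3 | h3
  · exact ha h3
  · exact hb h3

theorem regular_inv {p : ℕ} {a : G} (ha : ¬ p ∣ orderOf a) : ¬ p ∣ orderOf a⁻¹ := by
  rw [orderOf_inv]
  exact ha

theorem regular_pow {p : ℕ} {a : G} (ha : ¬ p ∣ orderOf a) (n : ℕ) : ¬ p ∣ orderOf (a ^ n) :=
  fun h => ha (h.trans (orderOf_pow_dvd n))

theorem eq_one_of_ppow_of_regular {p : ℕ} (hp : p.Prime) {a : G}
    (h1 : ∃ k : ℕ, orderOf a = p ^ k) (h2 : ¬ p ∣ orderOf a) : a = 1 := by
  obtain ⟨k, hk⟩ := h1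
  rcases Nat.eq_zero_or_pos k with rfl | hkpos
  · rw [pow_zero] at hk
    exact orderOf_eq_one_iff.mp hk
  · exfalso
    apply h2
    rw [hk]
    exact dvd_pow_self p hkpos.ne'

theorem ppow_mul_of_commute {p : ℕ} (hp : p.Prime) {a b : G} (hab : Commute a b)
    (ha : ∃ k : ℕ, orderOf a = p ^ k) (hb : ∃ k : ℕ, orderOf b = p ^ k) :
    ∃ k : ℕ, orderOf (a * b) = p ^ k := by
  obtain ⟨k, hk⟩ := ha
  obtain ⟨l, hl⟩ := hb
  have h1 : (a * b) ^ (p ^ (k + l)) = 1 := by
    rw [hab.mul_pow]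
    have e1 : a ^ (p ^ (k + l)) = 1 := by
      rw [pow_add, pow_mul, ← hk, pow_orderOf_eq_one, one_pow]
    have e2 : b ^ (p ^ (k + l)) = 1 := by
      rw [pow_add, mul_comm, pow_mul, ← hl, pow_orderOf_eq_one, one_pow]
    rw [e1, e2, one_mul]
  obtain ⟨j, -, hj⟩ := (Nat.dvd_prime_pow hp).mp (orderOf_dvd_of_pow_eq_one h1)
  exact ⟨j, hj⟩

theorem central_product_exists_mul (U₁ U₂ : Subgroup G)
    (hcomm : ∀ u ∈ U₁, ∀ v ∈ U₂, u * v = v * u) (hgen : U₁ ⊔ U₂ = ⊤) (g : G) :
    ∃ u ∈ U₁, ∃ v ∈ U₂, g = u * v := by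
  let S : Subgroup G :=
    { carrier := {g | ∃ u ∈ U₁, ∃ v ∈ U₂, g = u * v}
      mul_mem' := by
        rintro _ _ ⟨u, hu, v, hv, rfl⟩ ⟨u', hu', v', hv', rfl⟩
        refine ⟨u * u', U₁.mul_mem hu hu', v * v', U₂.mul_mem hv hv', ?_⟩
        have := hcomm u' hu' v hv
        calc u * v * (u' * v') = u * (v * u') * v' := by group
          _ = u * (u' * v) * v' := by rw [this]
          _ = u * u' * (v * v') := by group
      one_mem' := ⟨1, U₁.one_mem, 1, U₂.one_mem, by simp⟩
      inv_mem' := by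
        rintro _ ⟨u, hu, v, hv, rfl⟩
        refine ⟨u⁻¹, U₁.inv_mem hu, v⁻¹, U₂.inv_mem hv, ?_⟩
        have := hcomm u⁻¹ (U₁.inv_mem hu) v⁻¹ (U₂.inv_mem hv)
        rw [mul_inv_rev, this] }
  have h1 : U₁ ≤ S := fun u hu => ⟨u, hu, 1, U₂.one_mem, by simp⟩
  have h2 : U₂ ≤ S := fun v hv => ⟨1, U₁.one_mem, v, hv, by simp⟩
  have h3 : S = ⊤ := by
    apply top_le_iff.mp
    rw [← hgen]
    exact sup_le h1 h2
  have : g ∈ S := by
    rw [h3]
    exact Subgroup.mem_top g
  exact this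

theorem central_product_normal_left (U₁ U₂ : Subgroup G)
    (hcomm : ∀ u ∈ U₁, ∀ v ∈ U₂, u * v = v * u) (hgen : U₁ ⊔ U₂ = ⊤) : U₁.Normal := by
  constructor
  intro x hx g
  obtain ⟨u, hu, v, hv, rfl⟩ := central_product_exists_mul U₁ U₂ hcomm hgen g
  have h1 : u * v * x * (u * v)⁻¹ = u * x * u⁻¹ := by
    have := hcomm x hx v hv
    calc u * v * x * (u * v)⁻¹ = u * (v * x) * v⁻¹ * u⁻¹ := by group
      _ = u * (x * v) * v⁻¹ * u⁻¹ := by rw [this]
      _ = u * x * u⁻¹ := by group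
  rw [h1]
  exact U₁.mul_mem (U₁.mul_mem hu hx) (U₁.inv_mem hu)

theorem central_product_normal_right (U₁ U₂ : Subgroup G)
    (hcomm : ∀ u ∈ U₁, ∀ v ∈ U₂, u * v = v * u) (hgen : U₁ ⊔ U₂ = ⊤) : U₂.Normal :=
  central_product_normal_left U₂ U₁ (fun v hv u hu => (hcomm u hu v hv).symm)
    (by rw [sup_comm]; exact hgen)

variable [Fintype G] {M : Ideal AlgInt}

open Classical in
/-- For a central product over a `p`-group the indicator of the `p`-regular elements is the
convolution of the indicators of the `p`-regular elements of the factors. -/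
theorem cconv_regInd_central_product {p : ℕ} [Fact p.Prime] (U₁ U₂ : Subgroup G)
    (hcomm : ∀ u ∈ U₁, ∀ v ∈ U₂, u * v = v * u) (hgen : U₁ ⊔ U₂ = ⊤)
    (hZ : IsPGroup p ↥(U₁ ⊓ U₂)) :
    cconv (fun g : G => if g ∈ U₁ then (regInd p : G → ℂ) g else 0)
      (fun g : G => if g ∈ U₂ then (regInd p : G → ℂ) g else 0) = regInd p := by
  have hp := (Fact.out : p.Prime)
  have hf1 : ∀ g : G, (if g ∈ U₁ then (regInd p : G → ℂ) g else 0)
      = if g ∈ U₁ ∧ ¬ p ∣ orderOf g then 1 else 0 := by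
    intro g
    unfold regInd
    by_cases h1 : g ∈ U₁
    · by_cases h2 : p ∣ orderOf g
      · rw [if_pos h1, if_pos h2, if_neg (fun h => h.2 h2)]
      · rw [if_pos h1, if_neg h2, if_pos ⟨h1, h2⟩]
    · rw [if_neg h1, if_neg (fun h => h1 h.1)]
  have hf2 : ∀ g : G, (if g ∈ U₂ then (regInd p : G → ℂ) g else 0)
      = if g ∈ U₂ ∧ ¬ p ∣ orderOf g then 1 else 0 := by
    intro g
    unfold regInd
    by_cases h1 : g ∈ U₂
    · by_cases h2 : p ∣ orderOf g
      · rw [if_pos h1, if_pos h2, if_neg (fun h => h.2 h2)]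
      · rw [if_pos h1, if_neg h2, if_pos ⟨h1, h2⟩]
    · rw [if_neg h1, if_neg (fun h => h1 h.1)]
  funext x
  rw [cconv_apply]
  simp only [hf1, hf2]
  by_cases hx : p ∣ orderOf x
  · have e0 : (regInd p : G → ℂ) x = 0 := by
      unfold regInd
      rw [if_pos hx]
    rw [e0]
    apply Finset.sum_eq_zero
    intro g _
    by_cases hg : g ∈ U₁ ∧ ¬ p ∣ orderOf g
    · by_cases hg' : g⁻¹ * x ∈ U₂ ∧ ¬ p ∣ orderOf (g⁻¹ * x)
      · exfalso
        have hc : Commute g (g⁻¹ * x) := hcomm g hg.1 _ hg'.1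
        have := regular_mul_of_commute hp hc hg.2 hg'.2
        rw [mul_inv_cancel_left] at this
        exact this hx
      · rw [if_neg hg', mul_zero]
    · rw [if_neg hg, zero_mul]
  · have e1 : (regInd p : G → ℂ) x = 1 := by
      unfold regInd
      rw [if_neg hx]
    rw [e1]
    obtain ⟨u, hu, v, hv, rfl⟩ := central_product_exists_mul U₁ U₂ hcomm hgen x
    obtain ⟨c, d, hcd, hpc, hrd⟩ := exists_pow_parts hp u
    obtain ⟨c', d', hcd', hpc', hrd'⟩ := exists_pow_parts hp v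
    have hud : u ^ d ∈ U₁ := U₁.pow_mem hu d
    have huc : u ^ c ∈ U₁ := U₁.pow_mem hu c
    have hvd : v ^ d' ∈ U₂ := U₂.pow_mem hv d'
    have hvc : v ^ c' ∈ U₂ := U₂.pow_mem hv c'
    -- the `p`-part of `u * v` is trivial
    have hb : u ^ c * v ^ c' = 1 := by
      apply eq_one_of_ppow_of_regular hp
      · exact ppow_mul_of_commute hp (hcomm _ huc _ hvc) hpc hpc'
      · have e2 : u ^ c * v ^ c' = (u * v) * (u ^ d * v ^ d')⁻¹ := by
          have h1 := hcomm _ hud _ hvc
          calc u ^ c * v ^ c' = u ^ c * (u ^ d * v ^ c') * (u ^ d)⁻¹ := by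
                rw [h1]; group
            _ = (u ^ c * u ^ d) * (v ^ c' * v ^ d') * ((v ^ d')⁻¹ * (u ^ d)⁻¹) := by group
            _ = (u * v) * (u ^ d * v ^ d')⁻¹ := by rw [hcd, hcd', mul_inv_rev]
        rw [e2]
        have hcm : Commute (u * v) (u ^ d * v ^ d')⁻¹ := by
          apply Commute.inv_right
          have h1 : Commute u (u ^ d) := (Commute.refl u).pow_right d
          have h2 : Commute u (v ^ d') := hcomm u hu _ hvd
          have h3 : Commute v (u ^ d) := (hcomm _ hud v hv).symm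
          have h4 : Commute v (v ^ d') := (Commute.refl v).pow_right d'
          exact (h1.mul_right h2).mul_left (h3.mul_right h4)
        exact regular_mul_of_commute hp hcm hx
          (regular_inv (regular_mul_of_commute hp (hcomm _ hud _ hvd) hrd hrd'))
    have hxe : u * v = u ^ d * v ^ d' := by
      have h1 := hcomm _ hud _ hvc
      calc u * v = (u ^ c * u ^ d) * (v ^ c' * v ^ d') := by rw [hcd, hcd']
        _ = u ^ c * (u ^ d * v ^ c') * v ^ d' := by group
        _ = u ^ c * (v ^ c' * u ^ d) * v ^ d' := by rw [h1]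
        _ = (u ^ c * v ^ c') * (u ^ d * v ^ d') := by group
        _ = u ^ d * v ^ d' := by rw [hb, one_mul]
    rw [hxe]
    rw [Finset.sum_eq_single (u ^ d)]
    · rw [if_pos ⟨hud, hrd⟩, inv_mul_cancel_left, if_pos ⟨hvd, hrd'⟩, mul_one]
    · intro g _ hgne
      by_cases hg : g ∈ U₁ ∧ ¬ p ∣ orderOf g
      · by_cases hg' : g⁻¹ * (u ^ d * v ^ d') ∈ U₂ ∧ ¬ p ∣ orderOf (g⁻¹ * (u ^ d * v ^ d'))
        · exfalso
          apply hgne
          obtain ⟨z, hz⟩ : ∃ z : G, z = g⁻¹ * u ^ d := ⟨_, rfl⟩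
          have hz1 : z ∈ U₁ := by
            rw [hz]
            exact U₁.mul_mem (U₁.inv_mem hg.1) hud
          have hz2 : z ∈ U₂ := by
            have h1 : z = g⁻¹ * (u ^ d * v ^ d') * (v ^ d')⁻¹ := by
              rw [hz]
              group
            rw [h1]
            exact U₂.mul_mem hg'.1 (U₂.inv_mem hvd)
          have hzp : ∃ k : ℕ, orderOf z = p ^ k := by
            obtain ⟨k, hk⟩ := hZ ⟨z, Subgroup.mem_inf.mpr ⟨hz1, hz2⟩⟩
            have h1 : z ^ (p ^ k) = 1 := by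
              have := congrArg (Subtype.val) hk
              simpa using this
            obtain ⟨j, -, hj⟩ := (Nat.dvd_prime_pow hp).mp (orderOf_dvd_of_pow_eq_one h1)
            exact ⟨j, hj⟩
          have hgz : Commute g z := hcomm g hg.1 z hz2
          have hzr : ¬ p ∣ orderOf z := by
            have h1 : u ^ d = g * z := by
              rw [hz]
              group
            have h2 : Commute g (u ^ d) := by
              rw [h1]
              exact (Commute.refl g).mul_right hgz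
            rw [hz]
            exact regular_mul_of_commute hp h2.inv_left (regular_inv hg.2) hrd
          have hz0 := eq_one_of_ppow_of_regular hp hzp hzr
          rw [hz] at hz0
          have := inv_mul_eq_one.mp hz0
          exact this
        · rw [if_neg hg', mul_zero]
      · rw [if_neg hg, zero_mul]
    · intro h
      exact absurd (Finset.mem_univ _) h

/-- The principal block of a central product over a `p`-group. -/
theorem mem_principalBlock_central_product {p : ℕ} [Fact p.Prime] (hM : IsPModular p M)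
    (U₁ U₂ : Subgroup G) [Fintype U₁] [Fintype U₂]
    (hcomm : ∀ u ∈ U₁, ∀ v ∈ U₂, u * v = v * u) (hgen : U₁ ⊔ U₂ = ⊤)
    (hZ : IsPGroup p ↥(U₁ ⊓ U₂)) (χ : IrrCharacter G) (ψ₁ : IrrCharacter U₁)
    (ψ₂ : IrrCharacter U₂)
    (h₁ : classInner (fun u : U₁ => (χ : G → ℂ) u) (ψ₁ : U₁ → ℂ) ≠ 0)
    (h₂ : classInner (fun u : U₂ => (χ : G → ℂ) u) (ψ₂ : U₂ → ℂ) ≠ 0) :
    χ ∈ principalBlock M G ↔ (ψ₁ ∈ principalBlock M U₁ ∧ ψ₂ ∈ principalBlock M U₂) := by
  classical
  have hmax := hM.2.1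
  haveI hN1 : U₁.Normal := central_product_normal_left U₁ U₂ hcomm hgen
  haveI hN2 : U₂.Normal := central_product_normal_right U₁ U₂ hcomm hgen
  have hcl : ∀ (N : Subgroup G) [N.Normal],
      IsClassFunction G (fun g : G => if g ∈ N then (regInd p : G → ℂ) g else 0) := by
    intro N hN g k
    have hiff : k * g * k⁻¹ ∈ N ↔ g ∈ N := by
      constructor
      · intro hm
        have h1 := hN.conj_mem _ hm k⁻¹
        have h2 : k⁻¹ * (k * g * k⁻¹) * k⁻¹⁻¹ = g := by group
        rwa [h2] at h1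
      · intro hm
        exact hN.conj_mem _ hm k
    show (if k * g * k⁻¹ ∈ N then (regInd p : G → ℂ) (k * g * k⁻¹) else 0) =
      if g ∈ N then (regInd p : G → ℂ) g else 0
    rw [isClassFunction_regInd p g k]
    by_cases hg : g ∈ N
    · rw [if_pos hg, if_pos (hiff.mpr hg)]
    · rw [if_neg hg, if_neg (fun h' => hg (hiff.mp h'))]
  have e1 := omega_supported_normal U₁ χ ψ₁ h₁ (isClassFunction_regInd (G := G) p)
  have e2 := omega_supported_normal U₂ χ ψ₂ h₂ (isClassFunction_regInd (G := G) p)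
  rw [regInd_res] at e1 e2
  have e3 : omega (χ : G → ℂ) (regInd p) =
      omega (ψ₁ : U₁ → ℂ) (regInd p) * omega (ψ₂ : U₂ → ℂ) (regInd p) := by
    rw [← cconv_regInd_central_product U₁ U₂ hcomm hgen hZ,
      omega_cconv χ.2 (hcl U₁) (hcl U₂), e1, e2]
  have r1 : MemLocalRing M (omega (ψ₁ : U₁ → ℂ) (regInd p)) :=
    omega_memLocalRing hmax ψ₁.2 (isClassFunction_regInd p) (sVal_regInd hmax p)
  have r2 : MemLocalRing M (omega (ψ₂ : U₂ → ℂ) (regInd p)) :=
    omega_memLocalRing hmax ψ₂.2 (isClassFunction_regInd p) (sVal_regInd hmax p)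
  rw [mem_principalBlock_iff_omega_regInd hM χ, mem_principalBlock_iff_omega_regInd hM ψ₁,
    mem_principalBlock_iff_omega_regInd hM ψ₂, e3, memLocalIdeal_mul_iff hmax r1 r2]
  tauto

end Cfsg.Agent.Lib.Helper6
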