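import Mathlib

/-!
Glue lemma for S3265 (backup copy): from the "core" statement about involutions of `Perm (Fin n)`
to connectedness and diameter `2` of the odd-product graph on a class of involutions.
-/

namespace Cfsg.Agent.Lib.Helper6.InvGlue

theorem isConj_of_odd {G : Type*} [Group G] (x z : G) (hx : x * x = 1) (hz : z * z = 1)
    (h : Odd (orderOf (x * z))) : IsConj x z := by
  obtain ⟨j, hj⟩ := h
  have hinv : z * x = (x * z)⁻¹ := by
    rw [eq_inv_iff_mul_eq_one]
    calc z * x * (x * z) = z * (x * x) * z := by group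
      _ = 1 := by rw [hx, mul_one, hz]
  have hcomm : ∀ k : ℕ, (x * z) ^ k * x = x * (z * x) ^ k := by
    intro k
    induction k with
    | zero => simp
    | succ k ih =>
      calc (x * z) ^ (k + 1) * x = (x * z) ^ k * x * (z * x) := by rw [pow_succ]; group
        _ = x * (z * x) ^ (k + 1) := by rw [ih, pow_succ, mul_assoc]
  rw [isConj_iff]
  refine ⟨(x * z) ^ j, ?_⟩
  have e : ((x * z) ^ j)⁻¹ = (z * x) ^ j := by rw [hinv, inv_pow]
  have h1 : (z * x) ^ (j + j + 1) = 1 := by
    rw [hinv, inv_pow, show j + j + 1 = 2 * j + 1 by ring, ← hj, pow_orderOf_eq_one, inv_one]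
  have h2 : (z * x) ^ (j + j) = x * z := by
    have h3 : (z * x) ^ (j + j) * (z * x) = 1 := by rw [← pow_succ]; exact h1
    calc (z * x) ^ (j + j) = (z * x)⁻¹ := eq_inv_of_mul_eq_one_left h3
      _ = x * z := by rw [hinv, inv_inv]
  rw [e, hcomm, mul_assoc, ← pow_add, h2, ← mul_assoc, hx, one_mul]

theorem exists_commuting_conj (n : ℕ) (hn : 5 ≤ n) (t : Equiv.Perm (Fin n)) (htt : t * t = 1)
    (ht1 : t ≠ 1) : ∃ u : Equiv.Perm (Fin n), IsConj t u ∧ u ≠ t ∧ t * u = u * t := by
  classical
  have htinv : t⁻¹ = t := inv_eq_of_mul_eq_one_left htt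
  have htt' : ∀ v, t (t v) = v := by
    intro v
    rw [← Equiv.Perm.mul_apply, htt]; rfl
  obtain ⟨a, ha⟩ : ∃ a, t a ≠ a := by
    by_contra hcon
    apply ht1
    ext v
    by_contra hv
    exact hcon ⟨v, fun h => hv (by rw [h]; rfl)⟩
  set b := t a with hb
  have hab : a ≠ b := fun h => ha h.symm
  have htb : t b = a := htt' a
  by_cases hc : ∃ c, c ≠ a ∧ c ≠ b ∧ t c ≠ c
  · obtain ⟨c, hca, hcb, htc⟩ := hc
    set d := t c with hd
    have had : a ≠ d := by
      intro h
      apply hcb
      apply t.injective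
      rw [htb, ← hd, ← h]
    have hdb : d ≠ b := by
      intro h
      apply hca
      apply t.injective
      rw [← hd, h]
    set g : Equiv.Perm (Fin n) := Equiv.swap b c with hg
    have hginv : g⁻¹ = g := Equiv.swap_inv b c
    have hg' : t * g * t = Equiv.swap a d := by
      have := Equiv.swap_apply_apply t b c
      rw [htb, ← hd, htinv] at this
      rw [this]
    have hdisj : Equiv.Perm.Disjoint (Equiv.swap a d) (Equiv.swap b c) := by
      apply Equiv.Perm.disjoint_swap_swap
      simp only [List.nodup_cons, List.mem_cons, List.not_mem_nil,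
        not_or, or_false, List.nodup_nil, and_true, not_false_eq_true]
      exact ⟨⟨had, hab, fun h => hca h.symm⟩, ⟨hdb, htc⟩, fun h => hcb h.symm⟩
    have hcm : Equiv.swap a d * g = g * Equiv.swap a d := hdisj.commute.eq
    refine ⟨g * t * g⁻¹, isConj_iff.mpr ⟨g, rfl⟩, ?_, ?_⟩
    · intro h
      have h' : (g * t * g⁻¹) a = t a := by rw [h]
      simp only [Equiv.Perm.mul_apply] at h'
      rw [hginv] at h'
      have hga : g a = a := Equiv.swap_apply_of_ne_of_ne hab (fun h => hca h.symm)
      rw [hga, ← hb] at h'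
      have hgb : g b = c := Equiv.swap_apply_left b c
      rw [hgb] at h'
      exact hcb h'
    · rw [hginv]
      calc t * (g * t * g) = (t * g * t) * g := by group
        _ = g * (t * g * t) := by rw [hg', hcm]
        _ = g * t * g * t := by group
  · have hfix : ∀ c, c ≠ a → c ≠ b → t c = c := by
      intro c hca hcb
      by_contra h
      exact hc ⟨c, hca, hcb, h⟩
    have htswap : t = Equiv.swap a b := by
      ext v
      by_cases hva : v = a
      · subst hva
        rw [Equiv.swap_apply_left]
      · by_cases hvb : v = b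
        · rw [hvb, Equiv.swap_apply_right, htb]
        · rw [hfix v hva hvb, Equiv.swap_apply_of_ne_of_ne hva hvb]
    -- two further points
    have hcard : 1 < ((Finset.univ : Finset (Fin n)) \ {a, b}).card := by
      have h1 : ((Finset.univ : Finset (Fin n)) \ {a, b}).card =
          (Finset.univ : Finset (Fin n)).card - ({a, b} : Finset (Fin n)).card :=
        Finset.card_sdiff_of_subset (Finset.subset_univ _)
      have h2 : ({a, b} : Finset (Fin n)).card = 2 := Finset.card_pair hab
      rw [h1, h2, Finset.card_univ, Fintype.card_fin]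
      omega
    obtain ⟨c, hcm, d, hdm, hcd⟩ := Finset.one_lt_card.mp hcard
    simp only [Finset.mem_sdiff, Finset.mem_univ, Finset.mem_insert, Finset.mem_singleton,
      true_and, not_or] at hcm hdm
    refine ⟨Equiv.swap c d, ?_, ?_, ?_⟩
    · rw [htswap]
      exact Equiv.Perm.isConj_swap hab hcd
    · intro h
      have h' : Equiv.swap c d a = t a := by rw [h]
      rw [Equiv.swap_apply_of_ne_of_ne (fun h => hcm.1 h.symm) (fun h => hdm.1 h.symm), ← hb] at h'
      exact hab h'
    · rw [htswap]
      have hdisj : Equiv.Perm.Disjoint (Equiv.swap a b) (Equiv.swap c d) := by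
        apply Equiv.Perm.disjoint_swap_swap
        simp only [List.nodup_cons, List.mem_cons, List.not_mem_nil,
          not_or, or_false, List.nodup_nil, and_true, not_false_eq_true]
        exact ⟨⟨hab, fun h => hcm.1 h.symm, fun h => hdm.1 h.symm⟩,
          ⟨fun h => hcm.2 h.symm, fun h => hdm.2 h.symm⟩, hcd⟩
      exact hdisj.commute.eq

theorem glue (n : ℕ) (hn : 5 ≤ n) (t : Equiv.Perm (Fin n)) (ht : orderOf t = 2)
    (core : ∀ x y : Equiv.Perm (Fin n), x * x = 1 → y * y = 1 →
      x.support.card = y.support.card →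
      ∃ z : Equiv.Perm (Fin n), z * z = 1 ∧ Odd (orderOf (x * z)) ∧ Odd (orderOf (y * z))) :
    (SimpleGraph.fromRel fun x y : {x : Equiv.Perm (Fin n) // IsConj t x} =>
        Odd (orderOf (x.1 * y.1))).Connected ∧
      (SimpleGraph.fromRel fun x y : {x : Equiv.Perm (Fin n) // IsConj t x} =>
        Odd (orderOf (x.1 * y.1))).diam = 2 := by
  classical
  set Γ := SimpleGraph.fromRel fun x y : {x : Equiv.Perm (Fin n) // IsConj t x} =>
    Odd (orderOf (x.1 * y.1)) with hΓ
  have htt : t * t = 1 := by rw [← pow_two, ← ht, pow_orderOf_eq_one]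
  have ht1 : t ≠ 1 := by
    intro h
    rw [h, orderOf_one] at ht
    omega
  have hinv : ∀ x : {x : Equiv.Perm (Fin n) // IsConj t x}, x.1 * x.1 = 1 := by
    intro x
    obtain ⟨c, hc⟩ := isConj_iff.mp x.2
    rw [← hc]
    calc c * t * c⁻¹ * (c * t * c⁻¹) = c * (t * t) * c⁻¹ := by group
      _ = 1 := by rw [htt]; group
  have hcard : ∀ x : {x : Equiv.Perm (Fin n) // IsConj t x},
      x.1.support.card = t.support.card := by
    intro x
    obtain ⟨c, hc⟩ := isConj_iff.mp x.2
    rw [← hc, Equiv.Perm.card_support_conj]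
  have key : ∀ x y : {x : Equiv.Perm (Fin n) // IsConj t x},
      ∃ z : {x : Equiv.Perm (Fin n) // IsConj t x}, (x = z ∨ Γ.Adj x z) ∧ (y = z ∨ Γ.Adj y z) := by
    intro x y
    obtain ⟨z, hz, hxz, hyz⟩ := core x.1 y.1 (hinv x) (hinv y) ((hcard x).trans (hcard y).symm)
    have hzc : IsConj t z := x.2.trans (isConj_of_odd x.1 z (hinv x) hz hxz)
    refine ⟨⟨z, hzc⟩, ?_, ?_⟩
    · by_cases h : x = ⟨z, hzc⟩
      · exact Or.inl h
      · exact Or.inr (by rw [hΓ, SimpleGraph.fromRel_adj]; exact ⟨h, Or.inl hxz⟩)
    · by_cases h : y = ⟨z, hzc⟩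
      · exact Or.inl h
      · exact Or.inr (by rw [hΓ, SimpleGraph.fromRel_adj]; exact ⟨h, Or.inl hyz⟩)
  have hle : ∀ x y, Γ.edist x y ≤ 2 := by
    intro x y
    obtain ⟨z, hx, hy⟩ := key x y
    rcases hx with hx | hx
    · rcases hy with hy | hy
      · rw [hx, hy, SimpleGraph.edist_self]; exact bot_le
      · have h1 : Γ.edist x y = 1 := by
          rw [hx]; exact SimpleGraph.edist_eq_one_iff_adj.mpr hy.symm
        rw [h1]; exact one_le_two
    · rcases hy with hy | hy
      · have h1 : Γ.edist x y = 1 := by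
          rw [hy]; exact SimpleGraph.edist_eq_one_iff_adj.mpr hx
        rw [h1]; exact one_le_two
      · have := (SimpleGraph.Walk.cons hx (SimpleGraph.Walk.cons hy.symm SimpleGraph.Walk.nil)).edist_le
        simpa using this
  have hpair : ∃ x y : {x : Equiv.Perm (Fin n) // IsConj t x}, x ≠ y ∧ ¬ Γ.Adj x y := by
    obtain ⟨u, huc, hut, hcomm⟩ := exists_commuting_conj n hn t htt ht1
    have huu : u * u = 1 := hinv ⟨u, huc⟩
    have hord : orderOf (t * u) = 2 := by
      apply orderOf_eq_prime
      · rw [pow_two]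
        calc t * u * (t * u) = t * (u * t) * u := by group
          _ = t * (t * u) * u := by rw [hcomm]
          _ = (t * t) * (u * u) := by group
          _ = 1 := by rw [htt, huu, one_mul]
      · intro h
        apply hut
        have : u = t⁻¹ := eq_inv_of_mul_eq_one_right h
        rw [this]; exact inv_eq_of_mul_eq_one_left htt
    refine ⟨⟨t, IsConj.refl t⟩, ⟨u, huc⟩, ?_, ?_⟩
    · intro h
      exact hut (congrArg Subtype.val h).symm
    · rw [hΓ, SimpleGraph.fromRel_adj]
      rintro ⟨-, h | h⟩
      · simp only at h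
        rw [hord] at h
        exact absurd h (by decide)
      · simp only at h
        rw [← hcomm, hord] at h
        exact absurd h (by decide)
  have hediam : Γ.ediam = 2 := by
    apply le_antisymm (SimpleGraph.ediam_le_of_edist_le hle)
    obtain ⟨x, y, hne, hnadj⟩ := hpair
    have h2 : Γ.edist x y = 2 := by
      rw [SimpleGraph.edist_eq_two_iff]
      refine ⟨hne, hnadj, ?_⟩
      obtain ⟨z, hx, hy⟩ := key x y
      have hxz : Γ.Adj x z := by
        rcases hx with hx | hx
        · rcases hy with hy | hy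
          · exact absurd (hx.trans hy.symm) hne
          · rw [← hx] at hy
            exact absurd hy.symm hnadj
        · exact hx
      have hyz : Γ.Adj y z := by
        rcases hy with hy | hy
        · rw [← hy] at hxz
          exact absurd hxz hnadj
        · exact hy
      exact ⟨z, by rw [SimpleGraph.mem_commonNeighbors]; exact ⟨hxz, hyz⟩⟩
    rw [← h2]
    exact SimpleGraph.edist_le_ediam
  refine ⟨?_, ?_⟩
  · have : Nonempty {x : Equiv.Perm (Fin n) // IsConj t x} := ⟨⟨t, IsConj.refl t⟩⟩
    rw [SimpleGraph.connected_iff_ediam_ne_top, hediam]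
    decide
  · rw [SimpleGraph.diam, hediam]
    rfl

end Cfsg.Agent.Lib.Helper6.InvGlue
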