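import Mathlib

/-!
Insertion lemma for odd-order permutations (backup copy for S3265):
multiplying a permutation of odd order by a 3-cycle `(s f1 f2)` whose last two points are
fixed by the permutation keeps the order odd.
-/

namespace Cfsg.Agent.Lib.Helper6.OddIns

theorem pow_fixed {α : Type*} (σ : Equiv.Perm α) (f : α) (hf : σ f = f) (i : ℕ) :
    (σ ^ i) f = f := by
  induction i with
  | zero => simp
  | succ i ih => rw [pow_succ, Equiv.Perm.mul_apply, hf, ih]

theorem odd_mul_three {α : Type*} [Fintype α] [DecidableEq α] (σ τ : Equiv.Perm α) (s f1 f2 : α)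
    (h1 : s ≠ f1) (h2 : s ≠ f2) (h3 : f1 ≠ f2) (hf1 : σ f1 = f1) (hf2 : σ f2 = f2)
    (hτs : τ s = f1) (hτ1 : τ f1 = f2) (hτ2 : τ f2 = s)
    (hτ : ∀ v, v ≠ s → v ≠ f1 → v ≠ f2 → τ v = v) (hσ : Odd (orderOf σ)) :
    Odd (orderOf (σ * τ)) := by
  classical
  set ρ : Equiv.Perm α := σ * τ with hρ
  set L : ℕ := Function.minimalPeriod σ s with hL
  have hper : Function.IsPeriodicPt σ (orderOf σ) s := by
    show σ^[orderOf σ] s = s
    rw [Equiv.Perm.iterate_eq_pow, pow_orderOf_eq_one]; rfl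
  have hLdvd : L ∣ orderOf σ := hper.minimalPeriod_dvd
  have hLodd : Odd L := Odd.of_dvd_nat hσ hLdvd
  have hLpos : 0 < L := hLodd.pos
  have hρs : ρ s = f1 := by rw [hρ, Equiv.Perm.mul_apply, hτs, hf1]
  have hρ1 : ρ f1 = f2 := by rw [hρ, Equiv.Perm.mul_apply, hτ1, hf2]
  have hρ2 : ρ f2 = σ s := by rw [hρ, Equiv.Perm.mul_apply, hτ2]
  have hne1 : ∀ i : ℕ, (σ ^ i) s ≠ f1 := by
    intro i h
    apply h1
    have := pow_fixed σ f1 hf1 i
    exact (σ ^ i).injective (h.trans this.symm)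
  have hne2 : ∀ i : ℕ, (σ ^ i) s ≠ f2 := by
    intro i h
    apply h2
    have := pow_fixed σ f2 hf2 i
    exact (σ ^ i).injective (h.trans this.symm)
  have hnes : ∀ i : ℕ, 0 < i → i < L → (σ ^ i) s ≠ s := by
    intro i hi hiL h
    have hnp := Function.not_isPeriodicPt_of_pos_of_lt_minimalPeriod (f := σ) (x := s)
      (Nat.pos_iff_ne_zero.mp hi) hiL
    apply hnp
    show σ^[i] s = s
    rw [Equiv.Perm.iterate_eq_pow]; exact h
  have hF3 : ∀ i : ℕ, 1 ≤ i → i ≤ L → (ρ ^ (2 + i)) s = (σ ^ i) s := by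
    intro i hi
    induction i, hi using Nat.le_induction with
    | base =>
      intro _
      show (ρ ^ 3) s = (σ ^ 1) s
      rw [pow_succ, pow_succ, pow_one, Equiv.Perm.mul_apply, Equiv.Perm.mul_apply, hρs, hρ1, hρ2,
        pow_one]
    | succ i hi ih =>
      intro hiL
      have hi' : i ≤ L := by omega
      have e1 : (ρ ^ (2 + (i + 1))) s = ρ ((ρ ^ (2 + i)) s) := by
        rw [show 2 + (i + 1) = (2 + i) + 1 by ring, pow_succ', Equiv.Perm.mul_apply]
      rw [e1, ih hi', hρ, Equiv.Perm.mul_apply,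
        hτ _ (hnes i (by omega) (by omega)) (hne1 i) (hne2 i), pow_succ', Equiv.Perm.mul_apply]
  have hLs : (σ ^ L) s = s := by
    have := Function.isPeriodicPt_minimalPeriod σ s
    have h' : σ^[L] s = s := this
    rw [Equiv.Perm.iterate_eq_pow] at h'
    exact h'
  have hcyc : (ρ ^ (L + 2)) s = s := by
    rw [show L + 2 = 2 + L by ring, hF3 L hLpos le_rfl, hLs]
  have hcyc' : ∀ k : ℕ, (ρ ^ ((L + 2) * k)) s = s := by
    intro k
    induction k with
    | zero => simp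
    | succ k ih =>
      rw [Nat.mul_succ, pow_add, Equiv.Perm.mul_apply, hcyc, ih]
  -- the orbit of `s` under `ρ`
  have hTback : ∀ w : α, (∃ j : ℕ, ρ w = (ρ ^ j) s) → ∃ j : ℕ, w = (ρ ^ j) s := by
    rintro w ⟨j, hj⟩
    rcases Nat.eq_zero_or_pos j with h0 | hpos
    · subst h0
      refine ⟨L + 1, ?_⟩
      apply ρ.injective
      rw [hj, pow_zero, ← Equiv.Perm.mul_apply, ← pow_succ', hcyc]; rfl
    · refine ⟨j - 1, ?_⟩
      apply ρ.injective
      rw [hj, ← Equiv.Perm.mul_apply, ← pow_succ']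
      congr 2
      omega
  have hout : ∀ v : α, (¬ ∃ j : ℕ, v = (ρ ^ j) s) →
      ∀ j : ℕ, (ρ ^ j) v = (σ ^ j) v ∧ ¬ ∃ i : ℕ, (ρ ^ j) v = (ρ ^ i) s := by
    intro v hv j
    induction j with
    | zero => exact ⟨by simp, by simpa using hv⟩
    | succ j ih =>
      obtain ⟨ih1, ih2⟩ := ih
      set w := (ρ ^ j) v with hw
      have hws : w ≠ s := fun h => ih2 ⟨0, by rw [h]; simp⟩
      have hwf1 : w ≠ f1 := fun h => ih2 ⟨1, by rw [h, pow_one, hρs]⟩
      have hwf2 : w ≠ f2 := fun h => ih2 ⟨2, by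
        rw [h, pow_succ, pow_one, Equiv.Perm.mul_apply, hρs, hρ1]⟩
      have hρw : ρ w = σ w := by rw [hρ, Equiv.Perm.mul_apply, hτ w hws hwf1 hwf2]
      have e1 : (ρ ^ (j + 1)) v = ρ w := by rw [pow_succ', Equiv.Perm.mul_apply]
      refine ⟨?_, ?_⟩
      · rw [e1, hρw, ih1, pow_succ', Equiv.Perm.mul_apply]
      · rw [e1]
        intro h
        exact ih2 (hTback w h)
  have hpow : ρ ^ ((L + 2) * orderOf σ) = 1 := by
    ext v
    by_cases hv : ∃ j : ℕ, v = (ρ ^ j) s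
    · obtain ⟨j, rfl⟩ := hv
      rw [← Equiv.Perm.mul_apply, ← pow_add, add_comm, pow_add, Equiv.Perm.mul_apply, hcyc']
      rfl
    · have := (hout v hv ((L + 2) * orderOf σ)).1
      rw [this, mul_comm, pow_mul, pow_orderOf_eq_one, one_pow]
  have hdvd : orderOf ρ ∣ (L + 2) * orderOf σ := orderOf_dvd_of_pow_eq_one hpow
  have hodd : Odd ((L + 2) * orderOf σ) := by
    apply Odd.mul _ hσ
    obtain ⟨k, hk⟩ := hLodd
    exact ⟨k + 1, by omega⟩
  exact Odd.of_dvd_nat hodd hdvd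

end Cfsg.Agent.Lib.Helper6.OddIns
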