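import Mathlib
import Cfsg.Agent.Lib.Helper6.OddInsert6

/-!
Lift lemmas for the S3265 core (plain `Equiv.Perm` form): removing one transposition from each of two
involutions `x`, `y`, solving the smaller problem with `z'`, and adding one transposition to `z'`.
-/

namespace Cfsg.Agent.Lib.Helper6.InvLift

open Cfsg.Agent.Lib.Helper6.OddIns

/-- One side of the lift: `a` is moved by the involution `x`, `c` is fixed by `x`, and `z'` fixes both
`a` and `c`; if `(x * swap a (x a)) * z'` has odd order then so has `x * (z' * swap a c)`. -/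
theorem side_lift {α : Type*} [Fintype α] [DecidableEq α] (x z' : Equiv.Perm α) (a c : α)
    (hx : x * x = 1) (hac : a ≠ c) (hxa : x a ≠ a) (hxc : x c = c) (hza : z' a = a) (hzc : z' c = c)
    (hX : Odd (orderOf (x * Equiv.swap a (x a) * z'))) :
    Odd (orderOf (x * (z' * Equiv.swap a c))) := by
  classical
  set b := x a with hb
  have hxb : x b = a := by rw [hb, ← Equiv.Perm.mul_apply, hx]; rfl
  have hba : b ≠ a := hxa
  have hbc : b ≠ c := by
    intro h
    rw [h, hxc] at hxb
    exact hac hxb.symm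
  set g : Equiv.Perm α := Equiv.swap a b with hg
  have hgg : g * g = 1 := Equiv.swap_mul_self a b
  have hxinv : x⁻¹ = x := inv_eq_of_mul_eq_one_left hx
  have hxg : x * g = g * x := by
    have h1 := Equiv.swap_apply_apply x a b
    rw [← hb, hxb, hxinv] at h1
    -- h1 : swap b a = x * swap a b * x
    have h2 : x * g * x = g := by rw [hg, ← h1, Equiv.swap_comm]
    calc x * g = x * g * (x * x) := by rw [hx, mul_one]
      _ = (x * g * x) * x := by group
      _ = g * x := by rw [h2]
  set σ : Equiv.Perm α := x * g * z' with hσ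
  set τ : Equiv.Perm α := Equiv.swap a c * Equiv.swap a b with hτ
  have hsemi : SemiconjBy g (x * (z' * Equiv.swap a c)) (σ * τ) := by
    show g * (x * (z' * Equiv.swap a c)) = σ * τ * g
    rw [hσ, hτ]
    calc g * (x * (z' * Equiv.swap a c)) = (g * x) * z' * Equiv.swap a c := by group
      _ = (x * g) * z' * Equiv.swap a c := by rw [hxg]
      _ = x * g * z' * (Equiv.swap a c * Equiv.swap a b) * (g * g)⁻¹ * g := by
          rw [hgg, inv_one, mul_one]
          have : Equiv.swap a b * g = 1 := hgg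
          calc x * g * z' * Equiv.swap a c = x * g * z' * Equiv.swap a c * 1 := by rw [mul_one]
            _ = x * g * z' * Equiv.swap a c * (Equiv.swap a b * g) := by rw [this]
            _ = x * g * z' * (Equiv.swap a c * Equiv.swap a b) * g := by group
      _ = x * g * z' * (Equiv.swap a c * Equiv.swap a b) * g := by rw [hgg, inv_one, mul_one]
  rw [hsemi.orderOf_eq]
  have hσc : σ c = c := by
    rw [hσ, Equiv.Perm.mul_apply, Equiv.Perm.mul_apply, hzc, hg,
      Equiv.swap_apply_of_ne_of_ne (Ne.symm hac) (Ne.symm hbc), hxc]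
  have hσa : σ a = a := by
    rw [hσ, Equiv.Perm.mul_apply, Equiv.Perm.mul_apply, hza, hg, Equiv.swap_apply_left, hxb]
  have hτb : τ b = c := by
    rw [hτ, Equiv.Perm.mul_apply, Equiv.swap_apply_right, Equiv.swap_apply_left]
  have hτc : τ c = a := by
    rw [hτ, Equiv.Perm.mul_apply, Equiv.swap_apply_of_ne_of_ne (Ne.symm hac) (Ne.symm hbc),
      Equiv.swap_apply_right]
  have hτa : τ a = b := by
    rw [hτ, Equiv.Perm.mul_apply, Equiv.swap_apply_left, Equiv.swap_apply_of_ne_of_ne hba hbc]
  have hτo : ∀ v, v ≠ b → v ≠ c → v ≠ a → τ v = v := by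
    intro v hvb hvc hva
    rw [hτ, Equiv.Perm.mul_apply, Equiv.swap_apply_of_ne_of_ne hva hvb,
      Equiv.swap_apply_of_ne_of_ne hva hvc]
  exact odd_mul_three σ τ b c a hbc hba (Ne.symm hac) hσc hσa hτb hτc hτa hτo hX

/-- `z' * swap a c` is an involution when `z'` is one fixing `a` and `c`. -/
theorem sq_lift {α : Type*} [DecidableEq α] (z' : Equiv.Perm α) (a c : α)
    (hz : z' * z' = 1) (hza : z' a = a) (hzc : z' c = c) :
    (z' * Equiv.swap a c) * (z' * Equiv.swap a c) = 1 := by
  have hzinv : z'⁻¹ = z' := inv_eq_of_mul_eq_one_left hz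
  have h1 := Equiv.swap_apply_apply z' a c
  rw [hza, hzc, hzinv] at h1
  -- h1 : swap a c = z' * swap a c * z'
  calc z' * Equiv.swap a c * (z' * Equiv.swap a c)
      = (z' * Equiv.swap a c * z') * Equiv.swap a c := by group
    _ = Equiv.swap a c * Equiv.swap a c := by rw [← h1]
    _ = 1 := Equiv.swap_mul_self a c

/-- Move (M5): `a` moved by `x` only, `c` moved by `y` only. -/
theorem m5_lift {α : Type*} [Fintype α] [DecidableEq α] (x y z' : Equiv.Perm α) (a c : α)
    (hx : x * x = 1) (hy : y * y = 1) (hz : z' * z' = 1) (hac : a ≠ c)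
    (hxa : x a ≠ a) (hya : y a = a) (hyc : y c ≠ c) (hxc : x c = c)
    (hza : z' a = a) (hzc : z' c = c)
    (hX : Odd (orderOf (x * Equiv.swap a (x a) * z')))
    (hY : Odd (orderOf (y * Equiv.swap c (y c) * z'))) :
    (z' * Equiv.swap a c) * (z' * Equiv.swap a c) = 1 ∧
      Odd (orderOf (x * (z' * Equiv.swap a c))) ∧ Odd (orderOf (y * (z' * Equiv.swap a c))) := by
  refine ⟨sq_lift z' a c hz hza hzc, side_lift x z' a c hx hac hxa hxc hza hzc hX, ?_⟩
  rw [Equiv.swap_comm a c]
  exact side_lift y z' c a hy (Ne.symm hac) hyc hya hzc hza hY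

/-- Spare-point move: `a` moved by both `x` and `y`, `s` fixed by `x`, `y` and `z'`. -/
theorem spare_lift {α : Type*} [Fintype α] [DecidableEq α] (x y z' : Equiv.Perm α) (a s : α)
    (hx : x * x = 1) (hy : y * y = 1) (hz : z' * z' = 1) (has : a ≠ s)
    (hxa : x a ≠ a) (hya : y a ≠ a) (hxs : x s = s) (hys : y s = s)
    (hza : z' a = a) (hzs : z' s = s)
    (hX : Odd (orderOf (x * Equiv.swap a (x a) * z')))
    (hY : Odd (orderOf (y * Equiv.swap a (y a) * z'))) :
    (z' * Equiv.swap a s) * (z' * Equiv.swap a s) = 1 ∧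
      Odd (orderOf (x * (z' * Equiv.swap a s))) ∧ Odd (orderOf (y * (z' * Equiv.swap a s))) :=
  ⟨sq_lift z' a s hz hza hzs, side_lift x z' a s hx has hxa hxs hza hzs hX,
    side_lift y z' a s hy has hya hys hza hzs hY⟩

end Cfsg.Agent.Lib.Helper6.InvLift
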