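import Mathlib
import Cfsg.Agent.Lib.Helper6.OddInsert6
import Cfsg.Agent.Lib.Helper6.InvLift6

/-!
The (C4)-subdivision lift for the S3265 core, in plain `Equiv.Perm` form.
-/

namespace Cfsg.Agent.Lib.Helper6.InvLift

open Cfsg.Agent.Lib.Helper6.OddIns

/-- Pointwise form of the insertion lemma: `ρ` is obtained from `σ` by inserting the two `σ`-fixed
points `f1`, `f2` after `s`. -/
theorem ins_pt {α : Type*} [Fintype α] [DecidableEq α] (σ ρ : Equiv.Perm α) (s f1 f2 : α)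
    (h1 : s ≠ f1) (h2 : s ≠ f2) (h3 : f1 ≠ f2) (hf1 : σ f1 = f1) (hf2 : σ f2 = f2)
    (hρs : ρ s = f1) (hρ1 : ρ f1 = f2) (hρ2 : ρ f2 = σ s)
    (hρ : ∀ v, v ≠ s → v ≠ f1 → v ≠ f2 → ρ v = σ v) (hσ : Odd (orderOf σ)) :
    Odd (orderOf ρ) := by
  classical
  set τ : Equiv.Perm α := Equiv.swap s f2 * Equiv.swap s f1 with hτ
  have hτs : τ s = f1 := by
    rw [hτ, Equiv.Perm.mul_apply, Equiv.swap_apply_left,
      Equiv.swap_apply_of_ne_of_ne (Ne.symm h1) h3]
  have hτ1 : τ f1 = f2 := by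
    rw [hτ, Equiv.Perm.mul_apply, Equiv.swap_apply_right, Equiv.swap_apply_left]
  have hτ2 : τ f2 = s := by
    rw [hτ, Equiv.Perm.mul_apply, Equiv.swap_apply_of_ne_of_ne (Ne.symm h2) (Ne.symm h3),
      Equiv.swap_apply_right]
  have hτo : ∀ v, v ≠ s → v ≠ f1 → v ≠ f2 → τ v = v := by
    intro v hvs hv1 hv2
    rw [hτ, Equiv.Perm.mul_apply, Equiv.swap_apply_of_ne_of_ne hvs hv1,
      Equiv.swap_apply_of_ne_of_ne hvs hv2]
  have hρeq : ρ = σ * τ := by
    ext v
    rw [Equiv.Perm.mul_apply]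
    by_cases hvs : v = s
    · rw [hvs, hρs, hτs, hf1]
    · by_cases hv1 : v = f1
      · rw [hv1, hρ1, hτ1, hf2]
      · by_cases hv2 : v = f2
        · rw [hv2, hρ2, hτ2]
        · rw [hρ v hvs hv1 hv2, hτo v hvs hv1 hv2]
  rw [hρeq]
  exact odd_mul_three σ τ s f1 f2 h1 h2 h3 hf1 hf2 hτs hτ1 hτ2 hτo hσ

/-- One side of the (C4) lift. -/
theorem c4_side {α : Type*} [Fintype α] [DecidableEq α] (x z' : Equiv.Perm α) (a b c d p q : α)
    (hx : x * x = 1) (hz : z' * z' = 1) (hnd : [a, b, c, d, p, q].Nodup)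
    (hxa : x a = b) (hxc : x c = d)
    (hza : z' a = a) (hzb : z' b = b) (hzc : z' c = c) (hzd : z' d = d) (hzp : z' p = q)
    (hX : Odd (orderOf (x * Equiv.swap a b * Equiv.swap c d * z'))) :
    Odd (orderOf (x * (z' * Equiv.swap p q * Equiv.swap a c * Equiv.swap b p * Equiv.swap d q))) := by
  classical
  simp only [List.nodup_cons, List.mem_cons, List.not_mem_nil, not_or, or_false, List.nodup_nil,
    and_true, not_false_eq_true] at hnd
  obtain ⟨⟨hab, hac, had, hap, haq⟩, ⟨hbc, hbd, hbp, hbq⟩, ⟨hcd, hcp, hcq⟩, ⟨hdp, hdq⟩, hpq⟩ := hnd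
  have hxb : x b = a := by rw [← hxa, ← Equiv.Perm.mul_apply, hx]; rfl
  have hxd : x d = c := by rw [← hxc, ← Equiv.Perm.mul_apply, hx]; rfl
  have hzq : z' q = p := by rw [← hzp, ← Equiv.Perm.mul_apply, hz]; rfl
  have hzz : ∀ v, z' (z' v) = v := by
    intro v; rw [← Equiv.Perm.mul_apply, hz]; rfl
  set σ : Equiv.Perm α := x * Equiv.swap a b * Equiv.swap c d * z' with hσ
  set z : Equiv.Perm α := z' * Equiv.swap p q * Equiv.swap a c * Equiv.swap b p * Equiv.swap d q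
    with hzdef
  -- values of `σ`
  have hσv : ∀ v, σ v = x (Equiv.swap a b (Equiv.swap c d (z' v))) := by
    intro v; rw [hσ]; simp only [Equiv.Perm.mul_apply]
  have hσa : σ a = a := by
    rw [hσv, hza, Equiv.swap_apply_of_ne_of_ne hac had, Equiv.swap_apply_left, hxb]
  have hσb : σ b = b := by
    rw [hσv, hzb, Equiv.swap_apply_of_ne_of_ne hbc hbd, Equiv.swap_apply_right, hxa]
  have hσc : σ c = c := by
    rw [hσv, hzc, Equiv.swap_apply_left, Equiv.swap_apply_of_ne_of_ne (Ne.symm had) (Ne.symm hbd),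
      hxd]
  have hσd : σ d = d := by
    rw [hσv, hzd, Equiv.swap_apply_right, Equiv.swap_apply_of_ne_of_ne (Ne.symm hac) (Ne.symm hbc),
      hxc]
  have hσp : σ p = x q := by
    rw [hσv, hzp, Equiv.swap_apply_of_ne_of_ne (Ne.symm hcq) (Ne.symm hdq),
      Equiv.swap_apply_of_ne_of_ne (Ne.symm haq) (Ne.symm hbq)]
  have hσq : σ q = x p := by
    rw [hσv, hzq, Equiv.swap_apply_of_ne_of_ne (Ne.symm hcp) (Ne.symm hdp),
      Equiv.swap_apply_of_ne_of_ne (Ne.symm hap) (Ne.symm hbp)]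
  have hσo : ∀ v, v ≠ a → v ≠ b → v ≠ c → v ≠ d → σ v = x (z' v) := by
    intro v hva hvb hvc hvd
    have n1 : z' v ≠ a := fun h => hva (by rw [← hzz v, h, hza])
    have n2 : z' v ≠ b := fun h => hvb (by rw [← hzz v, h, hzb])
    have n3 : z' v ≠ c := fun h => hvc (by rw [← hzz v, h, hzc])
    have n4 : z' v ≠ d := fun h => hvd (by rw [← hzz v, h, hzd])
    rw [hσv, Equiv.swap_apply_of_ne_of_ne n3 n4, Equiv.swap_apply_of_ne_of_ne n1 n2]
  -- values of `z`
  have hzv : ∀ v, z v = z' (Equiv.swap p q (Equiv.swap a c (Equiv.swap b p (Equiv.swap d q v)))) := by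
    intro v; rw [hzdef]; simp only [Equiv.Perm.mul_apply]
  have hza' : z a = c := by
    rw [hzv, Equiv.swap_apply_of_ne_of_ne had haq, Equiv.swap_apply_of_ne_of_ne hab hap,
      Equiv.swap_apply_left, Equiv.swap_apply_of_ne_of_ne hcp hcq, hzc]
  have hzc' : z c = a := by
    rw [hzv, Equiv.swap_apply_of_ne_of_ne hcd hcq, Equiv.swap_apply_of_ne_of_ne (Ne.symm hbc) hcp,
      Equiv.swap_apply_right, Equiv.swap_apply_of_ne_of_ne hap haq, hza]
  have hzb' : z b = p := by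
    rw [hzv, Equiv.swap_apply_of_ne_of_ne hbd hbq, Equiv.swap_apply_left,
      Equiv.swap_apply_of_ne_of_ne (Ne.symm hap) (Ne.symm hcp), Equiv.swap_apply_left, hzq]
  have hzp' : z p = b := by
    rw [hzv, Equiv.swap_apply_of_ne_of_ne (Ne.symm hdp) hpq, Equiv.swap_apply_right,
      Equiv.swap_apply_of_ne_of_ne (Ne.symm hab) hbc, Equiv.swap_apply_of_ne_of_ne hbp hbq, hzb]
  have hzd' : z d = q := by
    rw [hzv, Equiv.swap_apply_left, Equiv.swap_apply_of_ne_of_ne (Ne.symm hbq) (Ne.symm hpq),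
      Equiv.swap_apply_of_ne_of_ne (Ne.symm haq) (Ne.symm hcq), Equiv.swap_apply_right, hzp]
  have hzq' : z q = d := by
    rw [hzv, Equiv.swap_apply_right, Equiv.swap_apply_of_ne_of_ne (Ne.symm hbd) hdp,
      Equiv.swap_apply_of_ne_of_ne (Ne.symm had) (Ne.symm hcd),
      Equiv.swap_apply_of_ne_of_ne hdp hdq, hzd]
  have hzo : ∀ v, v ≠ a → v ≠ b → v ≠ c → v ≠ d → v ≠ p → v ≠ q → z v = z' v := by
    intro v hva hvb hvc hvd hvp hvq
    rw [hzv, Equiv.swap_apply_of_ne_of_ne hvd hvq, Equiv.swap_apply_of_ne_of_ne hvb hvp,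
      Equiv.swap_apply_of_ne_of_ne hva hvc, Equiv.swap_apply_of_ne_of_ne hvp hvq]
  -- first insertion: `p ↦ a ↦ d ↦ σ p`
  set τ₁ : Equiv.Perm α := Equiv.swap p d * Equiv.swap p a with hτ₁
  set ρ₁ : Equiv.Perm α := σ * τ₁ with hρ₁
  have hτ₁v : ∀ v, τ₁ v = Equiv.swap p d (Equiv.swap p a v) := by
    intro v; rw [hτ₁]; simp only [Equiv.Perm.mul_apply]
  have hτp : τ₁ p = a := by
    rw [hτ₁v, Equiv.swap_apply_left, Equiv.swap_apply_of_ne_of_ne hap had]
  have hτa : τ₁ a = d := by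
    rw [hτ₁v, Equiv.swap_apply_right, Equiv.swap_apply_left]
  have hτd : τ₁ d = p := by
    rw [hτ₁v, Equiv.swap_apply_of_ne_of_ne hdp (Ne.symm had), Equiv.swap_apply_right]
  have hτo : ∀ v, v ≠ p → v ≠ a → v ≠ d → τ₁ v = v := by
    intro v hvp hva hvd
    rw [hτ₁v, Equiv.swap_apply_of_ne_of_ne hvp hva, Equiv.swap_apply_of_ne_of_ne hvp hvd]
  have hρ₁odd : Odd (orderOf ρ₁) :=
    odd_mul_three σ τ₁ p a d (Ne.symm hap) (Ne.symm hdp) had hσa hσd hτp hτa hτd hτo hX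
  have hρ₁v : ∀ v, ρ₁ v = σ (τ₁ v) := by
    intro v; rw [hρ₁, Equiv.Perm.mul_apply]
  -- second insertion: `q ↦ c ↦ b ↦ ρ₁ q`
  apply ins_pt ρ₁ (x * z) q c b (Ne.symm hcq) (Ne.symm hbq) (Ne.symm hbc)
  · rw [hρ₁v, hτo c hcp (Ne.symm hac) hcd, hσc]
  · rw [hρ₁v, hτo b hbp (Ne.symm hab) hbd, hσb]
  · rw [Equiv.Perm.mul_apply, hzq', hxd]
  · rw [Equiv.Perm.mul_apply, hzc', hxa]
  · rw [Equiv.Perm.mul_apply, hzb', hρ₁v, hτo q (Ne.symm hpq) (Ne.symm haq) (Ne.symm hdq), hσq]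
  · intro v hvq hvc hvb
    rw [Equiv.Perm.mul_apply, hρ₁v]
    by_cases hvp : v = p
    · rw [hvp, hzp', hxb, hτp, hσa]
    · by_cases hva : v = a
      · rw [hva, hza', hxc, hτa, hσd]
      · by_cases hvd : v = d
        · rw [hvd, hzd', hτd, hσp]
        · rw [hzo v hva hvb hvc hvd hvp hvq, hτo v hvp hva hvd, hσo v hva hvb hvc hvd]
  · exact hρ₁odd

/-- The (C4) lift: `x` and `y` form a 4-cycle `a -x- b -y- c -x- d -y- a`; `z'` fixes `a b c d` and
swaps `p q`; the lifted `z` subdivides the `z'`-edge `{p, q}`. -/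
theorem c4_lift {α : Type*} [Fintype α] [DecidableEq α] (x y z' : Equiv.Perm α) (a b c d p q : α)
    (hx : x * x = 1) (hy : y * y = 1) (hz : z' * z' = 1) (hnd : [a, b, c, d, p, q].Nodup)
    (hxa : x a = b) (hxc : x c = d) (hyb : y b = c) (hyd : y d = a)
    (hza : z' a = a) (hzb : z' b = b) (hzc : z' c = c) (hzd : z' d = d) (hzp : z' p = q)
    (hX : Odd (orderOf (x * Equiv.swap a b * Equiv.swap c d * z')))
    (hY : Odd (orderOf (y * Equiv.swap b c * Equiv.swap d a * z'))) :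
    (z' * Equiv.swap p q * Equiv.swap a c * Equiv.swap b p * Equiv.swap d q) *
        (z' * Equiv.swap p q * Equiv.swap a c * Equiv.swap b p * Equiv.swap d q) = 1 ∧
      Odd (orderOf (x * (z' * Equiv.swap p q * Equiv.swap a c * Equiv.swap b p * Equiv.swap d q))) ∧
      Odd (orderOf (y * (z' * Equiv.swap p q * Equiv.swap a c * Equiv.swap b p * Equiv.swap d q))) := by
  classical
  have hnd' := hnd
  simp only [List.nodup_cons, List.mem_cons, List.not_mem_nil, not_or, or_false, List.nodup_nil,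
    and_true, not_false_eq_true] at hnd'
  obtain ⟨⟨hab, hac, had, hap, haq⟩, ⟨hbc, hbd, hbp, hbq⟩, ⟨hcd, hcp, hcq⟩, ⟨hdp, hdq⟩, hpq⟩ := hnd'
  have hzq : z' q = p := by rw [← hzp, ← Equiv.Perm.mul_apply, hz]; rfl
  have hyc : y c = b := by rw [← hyb, ← Equiv.Perm.mul_apply, hy]; rfl
  have hya : y a = d := by rw [← hyd, ← Equiv.Perm.mul_apply, hy]; rfl
  refine ⟨?_, c4_side x z' a b c d p q hx hz hnd hxa hxc hza hzb hzc hzd hzp hX, ?_⟩
  · -- involution
    have hzinv : z'⁻¹ = z' := inv_eq_of_mul_eq_one_left hz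
    have h1 := Equiv.swap_apply_apply z' p q
    rw [hzp, hzq, hzinv] at h1
    have hz1 : (z' * Equiv.swap p q) * (z' * Equiv.swap p q) = 1 := by
      calc z' * Equiv.swap p q * (z' * Equiv.swap p q)
          = (z' * Equiv.swap p q * z') * Equiv.swap p q := by group
        _ = Equiv.swap q p * Equiv.swap p q := by rw [← h1]
        _ = 1 := by rw [Equiv.swap_comm q p]; exact Equiv.swap_mul_self p q
    have v1 : ∀ v, v ≠ p → v ≠ q → (z' * Equiv.swap p q) v = z' v := by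
      intro v hvp hvq
      rw [Equiv.Perm.mul_apply, Equiv.swap_apply_of_ne_of_ne hvp hvq]
    have z1a : (z' * Equiv.swap p q) a = a := by rw [v1 a hap haq, hza]
    have z1b : (z' * Equiv.swap p q) b = b := by rw [v1 b hbp hbq, hzb]
    have z1c : (z' * Equiv.swap p q) c = c := by rw [v1 c hcp hcq, hzc]
    have z1d : (z' * Equiv.swap p q) d = d := by rw [v1 d hdp hdq, hzd]
    have z1p : (z' * Equiv.swap p q) p = p := by
      rw [Equiv.Perm.mul_apply, Equiv.swap_apply_left, hzq]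
    have z1q : (z' * Equiv.swap p q) q = q := by
      rw [Equiv.Perm.mul_apply, Equiv.swap_apply_right, hzp]
    have hz2 := sq_lift (z' * Equiv.swap p q) a c hz1 z1a z1c
    have v2 : ∀ v, v ≠ a → v ≠ c →
        (z' * Equiv.swap p q * Equiv.swap a c) v = (z' * Equiv.swap p q) v := by
      intro v hva hvc
      rw [Equiv.Perm.mul_apply, Equiv.swap_apply_of_ne_of_ne hva hvc]
    have z2b : (z' * Equiv.swap p q * Equiv.swap a c) b = b := by
      rw [v2 b (Ne.symm hab) hbc, z1b]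
    have z2p : (z' * Equiv.swap p q * Equiv.swap a c) p = p := by
      rw [v2 p (Ne.symm hap) (Ne.symm hcp), z1p]
    have z2d : (z' * Equiv.swap p q * Equiv.swap a c) d = d := by
      rw [v2 d (Ne.symm had) (Ne.symm hcd), z1d]
    have z2q : (z' * Equiv.swap p q * Equiv.swap a c) q = q := by
      rw [v2 q (Ne.symm haq) (Ne.symm hcq), z1q]
    have hz3 := sq_lift (z' * Equiv.swap p q * Equiv.swap a c) b p hz2 z2b z2p
    have v3 : ∀ v, v ≠ b → v ≠ p →
        (z' * Equiv.swap p q * Equiv.swap a c * Equiv.swap b p) v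
          = (z' * Equiv.swap p q * Equiv.swap a c) v := by
      intro v hvb hvp
      rw [Equiv.Perm.mul_apply, Equiv.swap_apply_of_ne_of_ne hvb hvp]
    have z3d : (z' * Equiv.swap p q * Equiv.swap a c * Equiv.swap b p) d = d := by
      rw [v3 d (Ne.symm hbd) hdp, z2d]
    have z3q : (z' * Equiv.swap p q * Equiv.swap a c * Equiv.swap b p) q = q := by
      rw [v3 q (Ne.symm hbq) (Ne.symm hpq), z2q]
    exact sq_lift (z' * Equiv.swap p q * Equiv.swap a c * Equiv.swap b p) d q hz3 z3d z3q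
  · -- the `y` side
    have hnd2 : [c, b, a, d, p, q].Nodup := by
      simp only [List.nodup_cons, List.mem_cons, List.not_mem_nil, not_or, or_false,
        List.nodup_nil, and_true, not_false_eq_true]
      exact ⟨⟨Ne.symm hbc, Ne.symm hac, hcd, hcp, hcq⟩, ⟨Ne.symm hab, hbd, hbp, hbq⟩,
        ⟨had, hap, haq⟩, ⟨hdp, hdq⟩, hpq⟩
    have hY' : Odd (orderOf (y * Equiv.swap c b * Equiv.swap a d * z')) := by
      rw [Equiv.swap_comm c b, Equiv.swap_comm a d]; exact hY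
    have := c4_side y z' c b a d p q hy hz hnd2 hyc hya hzc hzb hza hzd hzp hY'
    rw [Equiv.swap_comm c a] at this
    exact this

end Cfsg.Agent.Lib.Helper6.InvLift
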