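import Mathlib
import Cfsg.Agent.Lib.Helper24.Subsec2
import Cfsg.Agent.Lib.Helper6.BrauerFeit2
import Cfsg.Agent.Lib.Helper6.InvSum
import Cfsg.Agent.S4667

set_option autoImplicit false

namespace Cfsg.Agent.Lib.Helper6

open Cfsg Cfsg.Agent.Lib.Helper1 Cfsg.Agent.Lib.Helper24
open scoped ComplexConjugate

universe u

/-- The value of a character at an involution is `2 r - χ(1)` for a natural number `r`. -/
theorem char_invol {G : Type u} [Group G] {χ : G → ℂ} (hχ : IsCharacter G χ) {t : G}
    (ht : t * t = 1) : ∃ r : ℕ, χ t = 2 * (r : ℂ) - χ 1 := by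
  obtain ⟨n, ρ, rfl⟩ := hχ
  have hA : ρ t * ρ t = 1 := by rw [← map_mul, ht, map_one]
  obtain ⟨P, hPdef⟩ : ∃ P : Module.End ℂ (Fin n → ℂ), P = (1 / 2 : ℂ) • (1 + ρ t) := ⟨_, rfl⟩
  have hPid : IsIdempotentElem P := by
    unfold IsIdempotentElem
    rw [hPdef, smul_mul_smul_comm]
    have h2 : (1 + ρ t) * (1 + ρ t) = (2 : ℂ) • (1 + ρ t) := by
      rw [mul_add, add_mul, add_mul, hA, one_mul, mul_one, one_mul, two_smul]
      abel
    rw [h2, smul_smul]
    norm_num
  obtain ⟨p, hp⟩ := (LinearMap.isProj_iff_isIdempotentElem P).mpr hPid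
  have htr := hp.trace
  refine ⟨Module.finrank ℂ p, ?_⟩
  show LinearMap.trace ℂ _ (ρ t) = 2 * (Module.finrank ℂ p : ℂ) - LinearMap.trace ℂ _ (ρ 1)
  rw [← htr, hPdef, map_smul, map_add, map_one ρ, smul_eq_mul]
  ring

/-- A finite group whose Sylow 2-subgroup is a four-group containing a central involution has a
normal 2-complement. -/
theorem klein_central_npc {H : Type u} [Group H] [Finite H] (Q : Sylow 2 H)
    (hQ : Nat.card Q = 4) (hexp : ∀ x : Q, x * x = 1) (z : H) (hzQ : z ∈ (Q : Subgroup H))
    (hz1 : z ≠ 1) (hzc : ∀ h : H, h * z = z * h) :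
    ∃ k : ℕ, (pPrimeCore 2 H).index = 2 ^ k := by
  classical
  haveI : Fact (Nat.Prime 2) := ⟨Nat.prime_two⟩
  obtain ⟨_⟩ := nonempty_fintype H
  have hsq : ∀ x ∈ (Q : Subgroup H), x * x = 1 := fun x hx => congrArg Subtype.val (hexp ⟨x, hx⟩)
  have hzz : z * z = 1 := hsq z hzQ
  have hcomm : ∀ x ∈ (Q : Subgroup H), ∀ y ∈ (Q : Subgroup H), x * y = y * x := by
    intro x hx y hy
    have h1 := hsq (x * y) ((Q : Subgroup H).mul_mem hx hy)
    have h2 := hsq x hx
    have h3 := hsq y hy
    calc x * y = x * (x * y * (x * y)) * y := by rw [h1, mul_one]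
      _ = (x * x) * (y * x) * (y * y) := by group
      _ = y * x := by rw [h2, h3, one_mul, mul_one]
  have hNC : Subgroup.normalizer (Q : Set H) ≤ Subgroup.centralizer (Q : Set H) := by
    intro n hn0
    have hn : n ∈ Subgroup.normalizer ((Q : Subgroup H) : Set H) := hn0
    rw [Subgroup.mem_centralizer_iff]
    intro x hx
    have hx' : x ∈ (Q : Subgroup H) := hx
    -- claim A
    have hA : n * x * n⁻¹ = x ∨ n * x * n⁻¹ = z * x := by
      by_cases hx1 : x = 1
      · left
        rw [hx1]
        group
      by_cases hxz : x = z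
      · left
        rw [hxz, hzc n]
        group
      have hy : n * x * n⁻¹ ∈ (Q : Subgroup H) := (Subgroup.mem_normalizer_iff.mp hn x).mp hx'
      have hy1 : n * x * n⁻¹ ≠ 1 := by
        intro h
        apply hx1
        have : x = n⁻¹ * (n * x * n⁻¹) * n := by group
        rw [this, h]
        group
      have hyz : n * x * n⁻¹ ≠ z := by
        intro h
        apply hxz
        have : x = n⁻¹ * (n * x * n⁻¹) * n := by group
        rw [this, h, mul_assoc, ← hzc n]
        group
      have hcard4 : ({1, z, x, z * x} : Finset H).card = 4 := by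
        rw [Finset.card_insert_of_notMem, Finset.card_insert_of_notMem,
          Finset.card_insert_of_notMem, Finset.card_singleton]
        · rw [Finset.mem_singleton]
          intro h
          apply hz1
          have : z = (z * x) * x⁻¹ := by group
          rw [this, ← h]
          group
        · rw [Finset.mem_insert, Finset.mem_singleton]
          rintro (h | h)
          · exact hxz h.symm
          · apply hx1
            have : x = z⁻¹ * (z * x) := by group
            rw [this, ← h]
            group
        · rw [Finset.mem_insert, Finset.mem_insert, Finset.mem_singleton]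
          rintro (h | h | h)
          · exact hz1 h.symm
          · exact hx1 h.symm
          · apply hxz
            have : x = z⁻¹ * (z * x) := by group
            rw [this, ← h, mul_one]
            exact (eq_inv_of_mul_eq_one_left hzz).symm
      have hsub : ({1, z, x, z * x} : Finset H) ⊆ ((Q : Subgroup H) : Set H).toFinset := by
        intro w hw
        rw [Set.mem_toFinset]
        simp only [Finset.mem_insert, Finset.mem_singleton] at hw
        rcases hw with rfl | rfl | rfl | rfl
        · exact (Q : Subgroup H).one_mem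
        · exact hzQ
        · exact hx'
        · exact (Q : Subgroup H).mul_mem hzQ hx'
      have hQcard : (((Q : Subgroup H) : Set H).toFinset).card = 4 := by
        rw [Set.toFinset_card, ← Nat.card_eq_fintype_card]
        exact hQ
      have heq := Finset.eq_of_subset_of_card_le hsub (by rw [hQcard, hcard4])
      have hymem : n * x * n⁻¹ ∈ ({1, z, x, z * x} : Finset H) := by
        rw [heq, Set.mem_toFinset]
        exact hy
      simp only [Finset.mem_insert, Finset.mem_singleton] at hymem
      rcases hymem with h | h | h | h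
      · exact absurd h hy1
      · exact absurd h hyz
      · left; exact h
      · right; exact h
    -- claim B: n^2 commutes with x
    have hB : Commute (n ^ 2) x := by
      have h2 : n ^ 2 * x * (n ^ 2)⁻¹ = x := by
        rcases hA with h | h
        · calc n ^ 2 * x * (n ^ 2)⁻¹ = n * (n * x * n⁻¹) * n⁻¹ := by rw [pow_two]; group
            _ = x := by rw [h, h]
        · calc n ^ 2 * x * (n ^ 2)⁻¹ = n * (n * x * n⁻¹) * n⁻¹ := by rw [pow_two]; group
            _ = n * (z * x) * n⁻¹ := by rw [h]
            _ = (n * z) * (x * n⁻¹) := by group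
            _ = z * (n * x * n⁻¹) := by rw [hzc n]; group
            _ = z * z * x := by rw [h]; group
            _ = x := by rw [hzz, one_mul]
      show n ^ 2 * x = x * n ^ 2
      calc n ^ 2 * x = (n ^ 2 * x * (n ^ 2)⁻¹) * n ^ 2 := by group
        _ = x * n ^ 2 := by rw [h2]
    -- claim C: an odd power of n lies in Q
    obtain ⟨j, m, hm, hjm⟩ := Nat.exists_eq_two_pow_mul_odd (orderOf_pos n).ne'
    have hC : n ^ m ∈ (Q : Subgroup H) := by
      have hord : orderOf (n ^ m) = 2 ^ j := by
        rw [orderOf_pow' n hm.pos.ne', hjm, Nat.gcd_eq_right (Dvd.intro_left _ rfl),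
          Nat.mul_div_cancel _ hm.pos]
      have hpg : IsPGroup 2 (Subgroup.zpowers (n ^ m)) := by
        apply IsPGroup.of_card (n := j)
        rw [Nat.card_zpowers, hord]
      have hinf := hpg.inf_normalizer_sylow Q
      have hmem : n ^ m ∈ Subgroup.zpowers (n ^ m) ⊓ Subgroup.normalizer (Q : Set H) :=
        Subgroup.mem_inf.mpr ⟨Subgroup.mem_zpowers _,
          (Subgroup.normalizer (Q : Set H)).pow_mem hn0 m⟩
      rw [hinf] at hmem
      exact (Subgroup.mem_inf.mp hmem).2
    have hCc : Commute (n ^ m) x := hcomm _ hC x hx'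
    obtain ⟨t, ht⟩ := hm
    have hBt : Commute (n ^ (2 * t)) x := by
      rw [pow_mul]
      exact hB.pow_left t
    have hn : n = n ^ m * (n ^ (2 * t))⁻¹ := by
      rw [ht, pow_succ]
      group
    have hfin : Commute n x := by
      rw [hn]
      exact hCc.mul_left hBt.inv_left
    exact hfin.eq.symm
  have hcompl := MonoidHom.ker_transferSylow_isComplement' Q hNC
  obtain ⟨K, hK⟩ : ∃ K : Subgroup H, K = (MonoidHom.transferSylow Q hNC).ker := ⟨_, rfl⟩
  rw [← hK] at hcompl
  have hKn : K.Normal := by
    rw [hK]
    exact MonoidHom.normal_ker _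
  have hidx : K.index = Nat.card Q := hcompl.symm.index_eq_card
  have hKcop : (Nat.card K).Coprime 2 := by
    have h1 : (Q : Subgroup H).index = Nat.card K := hcompl.index_eq_card
    rw [← h1]
    exact (Nat.Prime.coprime_iff_not_dvd Nat.prime_two).mpr Q.not_dvd_index |>.symm
  have hle : K ≤ pPrimeCore 2 H := Cfsg.Agent.Lib.Helper9.le_pPrimeCore hKn hKcop
  have hdvd : (pPrimeCore 2 H).index ∣ 2 ^ 2 := by
    have h1 := Subgroup.index_dvd_of_le hle
    rw [hidx] at h1
    have h4 : Nat.card (Q : Subgroup H) = 2 ^ 2 := hQ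
    rwa [h4] at h1
  obtain ⟨k, _, hk⟩ := (Nat.dvd_prime_pow Nat.prime_two).mp hdvd
  exact ⟨k, hk⟩

end Cfsg.Agent.Lib.Helper6
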