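import Mathlib
import Cfsg.Agent.Lib.Helper6.Klein

set_option autoImplicit false

namespace Cfsg.Agent.Lib.Helper6

open Cfsg Cfsg.Agent.Lib.Helper1 Cfsg.Agent.Lib.Helper24
open scoped ComplexConjugate

universe u

/-- With a normal `p`-complement, every `p`-regular element lies in `O_{p'}`. -/
theorem mem_pPrimeCore_of_reg {H : Type u} [Group H] [Finite H] {p : ℕ} [Fact p.Prime]
    (hnc : ∃ k : ℕ, (pPrimeCore p H).index = p ^ k) (g : H) (hg : ¬ p ∣ orderOf g) :
    g ∈ pPrimeCore p H := by
  have hp := (Fact.out : p.Prime)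
  haveI hKn : (pPrimeCore p H).Normal := SelfCent.core_normal p H
  obtain ⟨k, hk⟩ := hnc
  rw [← QuotientGroup.eq_one_iff]
  have h1 : orderOf (QuotientGroup.mk g : H ⧸ pPrimeCore p H) ∣ orderOf g :=
    orderOf_map_dvd (QuotientGroup.mk' (pPrimeCore p H)) g
  have h2 : orderOf (QuotientGroup.mk g : H ⧸ pPrimeCore p H) ∣ p ^ k := by
    rw [← hk, Subgroup.index]
    exact orderOf_dvd_natCard _
  obtain ⟨j, _, hj⟩ := (Nat.dvd_prime_pow hp).mp h2
  rcases Nat.eq_zero_or_pos j with h0 | hpos
  · rw [h0, pow_zero] at hj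
    exact orderOf_eq_one_iff.mp hj
  · exfalso
    apply hg
    apply dvd_trans _ h1
    rw [hj]
    exact dvd_pow_self p hpos.ne'

/-- The principal block of a group with a normal `p`-complement has `p`-regular rank one. -/
theorem blockRank_principal_of_npc {H : Type u} [Group H] [Fintype H] {p : ℕ} [Fact p.Prime]
    {M : Ideal AlgInt} (hM : IsPModular p M)
    (hnc : ∃ k : ℕ, (pPrimeCore p H).index = p ^ k) :
    blockRank p (principalBlock M H) = 1 := by
  classical
  have hp := (Fact.out : p.Prime)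
  haveI hKn : (pPrimeCore p H).Normal := SelfCent.core_normal p H
  obtain ⟨v, hv⟩ : ∃ v : H → ℂ, v = pRegularPart p (fun _ => (1 : ℂ)) := ⟨_, rfl⟩
  have hv1 : v 1 = 1 := by
    rw [hv, Trunc.pRegularPart_of_reg _ (by rw [orderOf_one]; exact hp.not_dvd_one)]
  have hv0 : v ≠ 0 := fun h => by
    rw [h] at hv1
    simp at hv1
  have hχ : ∀ χ ∈ principalBlock M H, pRegularPart p (χ : H → ℂ) = ((χ : H → ℂ) 1) • v := by
    intro χ hχ
    funext g
    rw [hv]
    by_cases hg : p ∣ orderOf g
    · rw [Pi.smul_apply, Trunc.pRegularPart_of_sing _ hg, Trunc.pRegularPart_of_sing _ hg,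
        smul_zero]
    · rw [Pi.smul_apply, Trunc.pRegularPart_of_reg _ hg, Trunc.pRegularPart_of_reg _ hg,
        smul_eq_mul, mul_one]
      exact ker_of_sameBlock hM (pPrimeCore p H) (SelfCent.core_not_dvd hp)
        ⟨fun _ => 1, isIrrCharacter_one⟩ χ hχ (fun g _ => rfl) g (mem_pPrimeCore_of_reg hnc g hg)
  have hspan : Submodule.span ℂ
      ((fun χ : IrrCharacter H => pRegularPart p (χ : H → ℂ)) '' principalBlock M H)
      = Submodule.span ℂ {v} := by
    apply le_antisymm
    · rw [Submodule.span_le]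
      rintro _ ⟨χ, hχB, rfl⟩
      show pRegularPart p (χ : H → ℂ) ∈ Submodule.span ℂ {v}
      rw [hχ χ hχB]
      exact Submodule.smul_mem _ _ (Submodule.mem_span_singleton_self v)
    · rw [Submodule.span_le, Set.singleton_subset_iff]
      apply Submodule.subset_span
      exact ⟨⟨fun _ => 1, isIrrCharacter_one⟩, DefectGroup.trivial_mem_principal hM.2.1, hv.symm⟩
  unfold blockRank
  rw [hspan]
  exact finrank_span_singleton hv0

variable {G : Type u} [Group G] [Fintype G] {M : Ideal AlgInt}

/-- The rank of the principal block of `C_G(1)` is that of `G`. -/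
theorem blockRank_centralizer_one {p : ℕ} [Fact p.Prime] (hM : IsPModular p M) :
    blockRank p (principalBlock M (Subgroup.centralizer ({(1 : G)} : Set G)))
      = blockRank p (principalBlock M G) := by
  classical
  have hB := DefectGroup.isPBlock_principal (M := M) (G := G)
  have h1 := Subsec.section_rank hM (1 : G) ⟨0, by simp⟩ (principalBlock M G) hB
    {principalBlock M (Subgroup.centralizer ({(1 : G)} : Set G))}
    (fun b => by
      rw [Finset.mem_singleton]
      exact (Subsec.induced_principal_iff hM 1 ⟨0, by simp⟩ _ rfl b).symm)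
  rw [Finset.sum_singleton] at h1
  have h2 := Cfsg.Agent.S4667.result p M hM (principalBlock M G) hB
  have hmem : ∀ x : G, x ∈ Subgroup.centralizer ({(1 : G)} : Set G) := by
    intro x
    rw [Subgroup.mem_centralizer_iff]
    intro h hh
    rw [Set.mem_singleton_iff.mp hh, one_mul, mul_one]
  have hsum : ∑ s : Subgroup.centralizer ({(1 : G)} : Set G), (if ¬ p ∣ orderOf s then
        ∑ᶠ χ ∈ principalBlock M G, (χ : G → ℂ) (1 * (s : G)) * (χ : G → ℂ) (1 * (s : G))⁻¹
        else 0)
      = ∑ x : G, ∑ᶠ χ ∈ principalBlock M G, pRegularPart p (χ : G → ℂ) x * (χ : G → ℂ) x⁻¹ := by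
    apply Fintype.sum_equiv (Equiv.subtypeUnivEquiv hmem)
    intro s
    show _ = ∑ᶠ χ ∈ principalBlock M G, pRegularPart p (χ : G → ℂ) (s : G)
      * (χ : G → ℂ) (s : G)⁻¹
    rw [one_mul]
    by_cases hs : p ∣ orderOf s
    · rw [if_neg (not_not.mpr hs)]
      symm
      apply finsum_mem_eq_zero_of_forall_eq_zero
      intro χ _
      rw [Trunc.pRegularPart_of_sing _ (by rw [Subgroup.orderOf_coe]; exact hs), zero_mul]
    · rw [if_pos hs]
      apply finsum_mem_congr rfl
      intro χ _
      rw [Trunc.pRegularPart_of_reg _ (by rw [Subgroup.orderOf_coe]; exact hs)]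
  rw [hsum, ← h2] at h1
  have hcard : Nat.card (Subgroup.centralizer ({(1 : G)} : Set G)) = Nat.card G :=
    Nat.card_congr (Equiv.subtypeUnivEquiv hmem)
  rw [hcard] at h1
  have hne : (Nat.card G : ℂ) ≠ 0 := Osima.card_ne_zero'
  have h3 := mul_left_cancel₀ hne h1
  exact_mod_cast h3.symm

end Cfsg.Agent.Lib.Helper6
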