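import Mathlib
import Cfsg.Agent.Lib.Helper6.Klein2

set_option autoImplicit false

/-!
# The principal 2-block of a group with Klein four Sylow 2-subgroups and one class of involutions

`klein_values`: the principal block has exactly four characters and each of them takes the value
`1` or `-1` at every involution.
-/

namespace Cfsg.Agent.Lib.Helper6

open Cfsg Cfsg.Agent.Lib.Helper1 Cfsg.Agent.Lib.Helper24
open scoped ComplexConjugate

universe u

variable {G : Type u} [Group G] [Fintype G] {M : Ideal AlgInt}

/-- Brauer: a group with Klein four Sylow 2-subgroups and one class of involutions has a principal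
2-block with exactly four characters, each of value `1` or `-1` at every involution. -/
theorem klein_values (hM : IsPModular 2 M) (P : Sylow 2 G) (hP : Nat.card P = 4)
    (hexp : ∀ x : P, x * x = 1)
    (hone : ∀ s t : G, orderOf s = 2 → orderOf t = 2 → IsConj s t) :
    Nat.card (principalBlock M G) = 4 ∧ ∀ ζ ∈ principalBlock M G, ∀ z : G, orderOf z = 2 →
      ((ζ : G → ℂ) z = 1 ∨ (ζ : G → ℂ) z = -1) := by
  classical
  haveI : Fact (Nat.Prime 2) := ⟨Nat.prime_two⟩
  have hfinIrr : Fintype (IrrCharacter G) := irrFintype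
  have hB := DefectGroup.isPBlock_principal (M := M) (G := G)
  have hsqP : ∀ x ∈ (P : Subgroup G), x * x = 1 :=
    fun x hx => congrArg Subtype.val (hexp ⟨x, hx⟩)
  have hcommP : ∀ x ∈ (P : Subgroup G), ∀ y ∈ (P : Subgroup G), x * y = y * x := by
    intro x hx y hy
    have h1 := hsqP (x * y) ((P : Subgroup G).mul_mem hx hy)
    have h2 := hsqP x hx
    have h3 := hsqP y hy
    calc x * y = x * (x * y * (x * y)) * y := by rw [h1, mul_one]
      _ = (x * x) * (y * x) * (y * y) := by group
      _ = y * x := by rw [h2, h3, one_mul, mul_one]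
  -- an involution in P
  obtain ⟨u, huP, hu1⟩ : ∃ u : G, u ∈ (P : Subgroup G) ∧ u ≠ 1 := by
    by_contra hcon
    push_neg at hcon
    have h1 : Nat.card (P : Subgroup G) ≤ 1 := by
      rw [Finite.card_le_one_iff_subsingleton]
      constructor
      intro a b
      apply Subtype.ext
      rw [hcon a a.2, hcon b b.2]
    have h4 : Nat.card (P : Subgroup G) = 4 := hP
    omega
  have huu : u * u = 1 := hsqP u huP
  have huo : orderOf u = 2 := orderOf_eq_prime (by rw [pow_two]; exact huu) hu1
  have huinv : u⁻¹ = u := inv_eq_of_mul_eq_one_left huu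
  -- 2-elements square to one
  have h2el : ∀ g : G, (∃ k : ℕ, orderOf g = 2 ^ k) → g * g = 1 := by
    rintro g ⟨k, hk⟩
    have hpg : IsPGroup 2 (Subgroup.zpowers g) := by
      apply IsPGroup.of_card (n := k)
      rw [Nat.card_zpowers, hk]
    obtain ⟨Q, hQ⟩ := hpg.exists_le_sylow
    obtain ⟨c, hc⟩ := MulAction.exists_smul_eq G P Q
    have hgQ : g ∈ (Q : Subgroup G) := hQ (Subgroup.mem_zpowers g)
    rw [← hc, Sylow.coe_subgroup_smul] at hgQ
    obtain ⟨s, hs, hsg⟩ := (Subgroup.mem_smul_pointwise_iff_exists _ _ _).mp hgQ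
    have hg : g = c * s * c⁻¹ := by
      rw [← hsg]
      rfl
    rw [hg]
    calc c * s * c⁻¹ * (c * s * c⁻¹) = c * (s * s) * c⁻¹ := by group
      _ = 1 := by rw [hsqP s hs]; group
  -- the section count
  have hcard := Subsec.card_block_eq hM (principalBlock M G) hB ({1, u} : Finset G)
    (by
      intro x hx
      rw [Finset.mem_insert, Finset.mem_singleton] at hx
      rcases hx with rfl | rfl
      · exact ⟨0, by simp⟩
      · exact ⟨1, by rw [huo, pow_one]⟩)
    (by
      intro g hg
      have hgg := h2el g hg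
      by_cases hg1 : g = 1
      · refine ⟨1, ⟨by simp, by rw [hg1]⟩, ?_⟩
        rintro y ⟨_, hy⟩
        rw [hg1] at hy
        exact isConj_one_right.mp hy
      · have hgo : orderOf g = 2 := orderOf_eq_prime (by rw [pow_two]; exact hgg) hg1
        refine ⟨u, ⟨by simp, hone g u hgo huo⟩, ?_⟩
        rintro y ⟨hy, hyc⟩
        rw [Finset.mem_insert, Finset.mem_singleton] at hy
        rcases hy with rfl | rfl
        · exact absurd (isConj_one_left.mp hyc) hg1
        · rfl)
  rw [Finset.sum_pair (Ne.symm hu1)] at hcard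
  have hset : ∀ x : G, (∃ k : ℕ, orderOf x = 2 ^ k) →
      {b : Set (IrrCharacter (Subgroup.centralizer ({x} : Set G))) |
        IsInducedBlock M (Subgroup.centralizer ({x} : Set G)) b (principalBlock M G)}
      = {principalBlock M (Subgroup.centralizer ({x} : Set G))} := by
    intro x hx
    ext b
    simp only [Set.mem_setOf_eq, Set.mem_singleton_iff]
    exact Subsec.induced_principal_iff hM x hx _ rfl b
  rw [hset 1 ⟨0, by simp⟩, hset u ⟨1, by rw [huo, pow_one]⟩, finsum_mem_singleton,
    finsum_mem_singleton, blockRank_centralizer_one hM] at hcard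
  -- the centralizer of u
  have hPC : (P : Subgroup G) ≤ Subgroup.centralizer ({u} : Set G) := by
    intro x hx
    rw [Subgroup.mem_centralizer_iff]
    intro h hh
    rw [Set.mem_singleton_iff.mp hh]
    exact hcommP u huP x hx
  have hQcard : Nat.card (P.subtype hPC : Sylow 2 (Subgroup.centralizer ({u} : Set G))) = 4 := by
    rw [← hP]
    exact Nat.card_congr (Subgroup.subgroupOfEquivOfLe hPC).toEquiv
  have huC : u ∈ Subgroup.centralizer ({u} : Set G) := hPC huP
  have hnc : ∃ k : ℕ, (pPrimeCore 2 (Subgroup.centralizer ({u} : Set G))).index = 2 ^ k := by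
    apply klein_central_npc (P.subtype hPC) hQcard _ ⟨u, huC⟩
    · exact Subgroup.mem_subgroupOf.mpr huP
    · intro h
      exact hu1 (congrArg Subtype.val h)
    · intro h
      apply Subtype.ext
      have h1 := (Subgroup.mem_centralizer_iff.mp h.2) u (Set.mem_singleton u)
      exact h1.symm
    · intro x
      apply Subtype.ext
      apply Subtype.ext
      exact hsqP _ (Subgroup.mem_subgroupOf.mp x.2)
  have hlu : blockRank 2 (principalBlock M (Subgroup.centralizer ({u} : Set G))) = 1 :=
    blockRank_principal_of_npc hM hnc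
  rw [hlu] at hcard
  -- the number of characters
  have hfact : (Nat.card (Subgroup.centralizer ({u} : Set G))).factorization 2 = 2 := by
    have h1 := Sylow.card_eq_multiplicity (P.subtype hPC)
    rw [hQcard] at h1
    have h2 : (2 : ℕ) ^ 2 = 2 ^ (Nat.card (Subgroup.centralizer ({u} : Set G))).factorization 2 := by
      rw [← h1]
      norm_num
    exact (Nat.pow_right_injective (le_refl 2) h2).symm
  have hGfact : (Nat.card G).factorization 2 = 2 := by
    have h1 := Sylow.card_eq_multiplicity P
    rw [hP] at h1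
    have h2 : (2 : ℕ) ^ 2 = 2 ^ (Nat.card G).factorization 2 := by
      rw [← h1]
      norm_num
    exact (Nat.pow_right_injective (le_refl 2) h2).symm
  have hps := Subsec.principal_section hM u ⟨1, by rw [huo, pow_one]⟩
    (1 : Subgroup.centralizer ({u} : Set G)) (by rw [orderOf_one]; norm_num)
  have hnpc := Subsec.principal_npc_sum hM hnc (1 : Subgroup.centralizer ({u} : Set G))
    (by rw [orderOf_one]; norm_num)
  rw [hnpc, hfact] at hps
  simp only [Subgroup.coe_one, mul_one] at hps
  rw [huinv, Subsec.fs] at hps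
  -- integrality and parity
  choose r hr using fun ζ : IrrCharacter G => char_invol (IsIrrCharacter.isCharacter ζ.2) huu
  obtain ⟨m, hm⟩ : ∃ m : IrrCharacter G → ℤ, ∀ ζ, m ζ = 2 * (r ζ : ℤ) - charDegree (ζ : G → ℂ) :=
    ⟨_, fun _ => rfl⟩
  have hval : ∀ ζ : IrrCharacter G, (ζ : G → ℂ) u = ((m ζ : ℤ) : ℂ) := by
    intro ζ
    rw [hr ζ, hm, CharBasic.char_one_nat (IsIrrCharacter.isCharacter ζ.2)]
    push_cast
    ring
  have hdeg1 : charDegree (fun _ : G => (1 : ℂ)) = 1 := by
    have h := CharBasic.char_one_nat (isCharacter_one (G := G))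
    have h' : ((1 : ℕ) : ℂ) = (charDegree (fun _ : G => (1 : ℂ)) : ℂ) := by
      rw [Nat.cast_one]
      exact h
    exact (Nat.cast_injective h').symm
  have hodd : ∀ ζ ∈ principalBlock M G, Odd (m ζ) := by
    intro ζ hζ
    have hh : blockHeight 2 (principalBlock M G) (ζ : G → ℂ) = 0 := by
      by_contra hne
      have h1 := height_add_two_le hM (principalBlock M G) hB hζ hne
      have h2 : blockDefect 2 (principalBlock M G) ≤ (Nat.card G).factorization 2 := by
        unfold blockDefect
        exact Nat.sub_le _ _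
      omega
    have hinf : sInf ((fun ψ : IrrCharacter G => (charDegree (ψ : G → ℂ)).factorization 2) ''
        principalBlock M G) = 0 := by
      have h1 : (charDegree (fun _ : G => (1 : ℂ))).factorization 2 ∈
          ((fun ψ : IrrCharacter G => (charDegree (ψ : G → ℂ)).factorization 2) ''
            principalBlock M G) :=
        ⟨⟨fun _ => 1, CharBasic.irr_trivial⟩, DefectGroup.trivial_mem_principal hM.2.1, rfl⟩
      have h2 := Nat.sInf_le h1
      rw [hdeg1, Nat.factorization_one] at h2
      exact Nat.le_zero.mp h2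
    have hfz : (charDegree (ζ : G → ℂ)).factorization 2 = 0 := by
      have h1 : blockHeight 2 (principalBlock M G) (ζ : G → ℂ)
          = (charDegree (ζ : G → ℂ)).factorization 2
            - sInf ((fun ψ : IrrCharacter G => (charDegree (ψ : G → ℂ)).factorization 2) ''
              principalBlock M G) := rfl
      rw [hinf, hh] at h1
      omega
    have hdpos := CharBasic.irr_degree_pos ζ.2
    have hnd : ¬ 2 ∣ charDegree (ζ : G → ℂ) := by
      rcases (Nat.factorization_eq_zero_iff _ _).mp hfz with h | h | h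
      · exact absurd Nat.prime_two h
      · exact h
      · omega
    have hdo : Odd (charDegree (ζ : G → ℂ)) := Nat.odd_iff.mpr (by omega)
    rw [hm]
    obtain ⟨t, ht⟩ := hdo
    refine ⟨(r ζ : ℤ) - t - 1, ?_⟩
    rw [ht]
    push_cast
    ring
  have hsumZ : ∑ ζ : IrrCharacter G, (if ζ ∈ principalBlock M G then (m ζ) ^ 2 else 0) = 4 := by
    have h1 : ∑ ζ : IrrCharacter G,
        (if ζ ∈ principalBlock M G then (ζ : G → ℂ) u * (ζ : G → ℂ) u else 0)
        = ((∑ ζ : IrrCharacter G, (if ζ ∈ principalBlock M G then (m ζ) ^ 2 else 0) : ℤ) : ℂ) := by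
      rw [Int.cast_sum]
      apply Finset.sum_congr rfl
      intro ζ _
      by_cases hζ : ζ ∈ principalBlock M G
      · rw [if_pos hζ, if_pos hζ, hval ζ]
        push_cast
        ring
      · rw [if_neg hζ, if_neg hζ, Int.cast_zero]
    rw [h1] at hps
    have h2 : ((∑ ζ : IrrCharacter G, (if ζ ∈ principalBlock M G then (m ζ) ^ 2 else 0) : ℤ) : ℂ)
        = ((4 : ℤ) : ℂ) := by
      rw [hps]
      norm_num
    exact Int.cast_injective h2
  have hone' : ∀ ζ : IrrCharacter G, ζ ∈ principalBlock M G → (m ζ) ^ 2 = 1 := by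
    intro ζ hζ
    have hle : (if ζ ∈ principalBlock M G then (m ζ) ^ 2 else 0) ≤ 4 := by
      rw [← hsumZ]
      apply Finset.single_le_sum (f := fun ζ : IrrCharacter G =>
        if ζ ∈ principalBlock M G then (m ζ) ^ 2 else 0) _ (Finset.mem_univ ζ)
      intro ψ _
      split_ifs
      · exact sq_nonneg _
      · exact le_refl _
    rw [if_pos hζ] at hle
    obtain ⟨t, ht⟩ := hodd ζ hζ
    have hb1 : -2 ≤ m ζ := by nlinarith
    have hb2 : m ζ ≤ 2 := by nlinarith
    have ht' : t = 0 ∨ t = -1 := by omega
    rcases ht' with h | h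
    · rw [ht, h]
      norm_num
    · rw [ht, h]
      norm_num
  have hk : Nat.card (principalBlock M G) = 4 := by
    have h1 : ∑ ζ : IrrCharacter G, (if ζ ∈ principalBlock M G then (m ζ) ^ 2 else 0)
        = ∑ ζ : IrrCharacter G, (if ζ ∈ principalBlock M G then (1 : ℤ) else 0) := by
      apply Finset.sum_congr rfl
      intro ζ _
      by_cases hζ : ζ ∈ principalBlock M G
      · rw [if_pos hζ, if_pos hζ, hone' ζ hζ]
      · rw [if_neg hζ, if_neg hζ]
    rw [h1, Finset.sum_boole] at hsumZ
    have h2 : Nat.card (principalBlock M G)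
        = (Finset.univ.filter (fun ζ : IrrCharacter G => ζ ∈ principalBlock M G)).card := by
      rw [Nat.card_eq_fintype_card]
      exact Fintype.card_subtype _
    rw [h2]
    exact_mod_cast hsumZ
  refine ⟨hk, ?_⟩
  intro ζ hζ z hz
  have hzu : (ζ : G → ℂ) z = (ζ : G → ℂ) u := by
    obtain ⟨c, hc⟩ := isConj_iff.mp (hone z u hz huo)
    rw [← hc]
    exact (irr_isClassFunction ζ z c).symm
  rw [hzu, hval ζ]
  have h1 := hone' ζ hζ
  have h2 : (m ζ - 1) * (m ζ + 1) = 0 := by
    have : (m ζ - 1) * (m ζ + 1) = (m ζ) ^ 2 - 1 := by ring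
    rw [this, h1, sub_self]
  rcases mul_eq_zero.mp h2 with h | h
  · left
    have h3 : m ζ = 1 := by omega
    rw [h3, Int.cast_one]
  · right
    have h3 : m ζ = -1 := by omega
    rw [h3]
    push_cast
    ring

end Cfsg.Agent.Lib.Helper6
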