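import Mathlib
import Cfsg.Agent.Lib.Helper6.PRes1
import Cfsg.Agent.Lib.Helper1.CharClifford2

set_option autoImplicit false

/-!
# Characters of `p'`-degree over a normal subgroup of `p`-power index with cyclic quotient, part 2

The count: the fixed characters of `p'`-degree in the principal block of `G` are `p` times the
invariant fixed characters of `p'`-degree in the principal block of `N`.
-/

namespace Cfsg.Agent.Lib.Helper6.PRes

open Cfsg Cfsg.Agent.Lib.Helper1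
open scoped ComplexConjugate

universe u

variable {G : Type u} [Group G] [Fintype G]

theorem hom_eq_of_gen (N : Subgroup G) [N.Normal] {g₀ : G}
    (hgen : ∀ x : G ⧸ N, x ∈ Subgroup.zpowers (g₀ : G ⧸ N))
    (lam lam' : G →* ℂˣ) (h1 : ∀ n ∈ N, lam n = 1) (h2 : ∀ n ∈ N, lam' n = 1)
    (h : lam g₀ = lam' g₀) : lam = lam' := by
  apply MonoidHom.ext
  intro g
  obtain ⟨i, hi⟩ := Subgroup.mem_zpowers_iff.mp (hgen (g : G ⧸ N))
  have hmem : (g₀ ^ i)⁻¹ * g ∈ N := by
    rw [← QuotientGroup.eq, QuotientGroup.mk_zpow]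
    exact hi
  have e1 : lam g = lam g₀ ^ i := by
    have h3 := h1 _ hmem
    rw [map_mul, map_inv, inv_mul_eq_one, map_zpow] at h3
    exact h3.symm
  have e2 : lam' g = lam' g₀ ^ i := by
    have h3 := h2 _ hmem
    rw [map_mul, map_inv, inv_mul_eq_one, map_zpow] at h3
    exact h3.symm
  rw [e1, e2, h]

theorem exists_hom_of_root (p : ℕ) [hp : Fact p.Prime] (N : Subgroup G) [N.Normal] {a : ℕ}
    (ha : 0 < a) (hidx : N.index = p ^ a) {g₀ : G}
    (hgen : ∀ x : G ⧸ N, x ∈ Subgroup.zpowers (g₀ : G ⧸ N)) (z : ℂˣ) (hz : z ^ p = 1) :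
    ∃ lam : G →* ℂˣ, (∀ n ∈ N, lam n = 1) ∧ lam g₀ = z := by
  have hord : orderOf z ∣ orderOf (g₀ : G ⧸ N) := by
    rw [orderOf_eq_card_of_forall_mem_zpowers hgen, ← Subgroup.index_eq_card, hidx]
    exact dvd_trans (orderOf_dvd_of_pow_eq_one hz) (dvd_pow_self p ha.ne')
  refine ⟨(monoidHomOfForallMemZpowers hgen hord).comp (QuotientGroup.mk' N), ?_, ?_⟩
  · intro n hn
    rw [MonoidHom.comp_apply]
    have e1 : QuotientGroup.mk' N n = 1 := (QuotientGroup.eq_one_iff n).mpr hn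
    rw [e1, map_one]
  · rw [MonoidHom.comp_apply]
    exact monoidHomOfForallMemZpowers_apply_gen hgen hord

/-- The characters counted in the group. -/
abbrev FixG (p : ℕ) (M : Ideal AlgInt) (G : Type u) [Group G] (k : ℕ) : Type u :=
  {χ : IrrCharacter G // χ ∈ principalBlock M G ∧ ¬ p ∣ charDegree (χ : G → ℂ) ∧
    ∀ g : G, (χ : G → ℂ) (g ^ k) = (χ : G → ℂ) g}

/-- The characters counted in the normal subgroup. -/
abbrev FixN (p : ℕ) (M : Ideal AlgInt) (P N : Subgroup G) [hN : N.Normal] (k : ℕ) : Type u :=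
  {θ : IrrCharacter ↥N // θ ∈ principalBlock M ↥N ∧ ¬ p ∣ charDegree (θ : ↥N → ℂ) ∧
    (∀ x ∈ P, ∀ n : ↥N, (θ : ↥N → ℂ) ⟨x * n * x⁻¹, hN.conj_mem n n.2 x⟩ = (θ : ↥N → ℂ) n) ∧
    ∀ n : ↥N, (θ : ↥N → ℂ) (n ^ k) = (θ : ↥N → ℂ) n}

theorem charDegree_restrict (N : Subgroup G) (χ : G → ℂ) :
    charDegree (fun n : N => χ n) = charDegree χ := by
  unfold charDegree
  show ⌊(χ ((1 : N) : G)).re⌋₊ = ⌊(χ 1).re⌋₊
  rw [Subgroup.coe_one]

theorem charDegree_congr (N : Subgroup G) {χ : G → ℂ} {θ : N → ℂ} (h : ∀ n : N, χ n = θ n) :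
    charDegree χ = charDegree θ := by
  rw [← charDegree_restrict N χ]
  have e : (fun n : N => χ n) = θ := funext h
  rw [e]

open Classical in
/-- The fibre of the restriction map has `p` elements. -/
theorem card_fibre (p : ℕ) [hp : Fact p.Prime] {M : Ideal AlgInt} (hM : IsPModular p M)
    (P N : Subgroup G) [hN : N.Normal] [Fintype N] {a : ℕ} (ha : 0 < a)
    (hidx : N.index = p ^ a) (hcyc : IsCyclic (G ⧸ N)) (hPN : P ⊔ N = ⊤)
    (hlin : ∀ (ν : N →* ℂˣ) (y : N), ν y ^ (ordCompl[p] (Nat.card G)) = 1)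
    {k : ℕ} (hk₁ : ∀ g : G, (∃ j : ℕ, orderOf g = p ^ j) → g ^ k = g ^ (1 + p))
    (hk₂ : ∀ g : G, Nat.Coprime (orderOf g) p → g ^ k = g)
    (r : FixG p M G k → FixN p M P N k)
    (hr : ∀ (x : FixG p M G k) (n : N), (x.1 : G → ℂ) n = ((r x).1 : N → ℂ) n)
    (y : FixN p M P N k) : Nat.card {x : FixG p M G k // r x = y} = p := by
  have hp' := hp.out
  haveI : NeZero p := ⟨hp'.ne_zero⟩
  have hk : k.Coprime (Nat.card G) := coprime_of_pow_p p hk₁ hk₂
  have hreg : ∀ g : G, ¬ p ∣ orderOf g → g ∈ N := fun g hg =>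
    Cfsg.Agent.Lib.Helper6.mem_of_regular_of_index_pow hp' N hidx hg
  obtain ⟨⟨θ, hθ⟩, hθB, hθdeg, hθP, hθfix⟩ := y
  -- invariance
  have hstab : charStab N θ = ⊤ := by
    apply top_le_iff.mp
    rw [← hPN]
    apply sup_le
    · intro x hx
      rw [mem_charStab]
      funext n
      exact hθP x hx n
    · exact le_charStab N (IsIrrCharacter.isClassFunction hθ)
  have hinv : ∀ (g : G) (n : N), θ ⟨g * n * g⁻¹, hN.conj_mem (n : G) n.2 g⟩ = θ n := by
    intro g n
    have hg : g ∈ charStab N θ := by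
      rw [hstab]
      exact Subgroup.mem_top g
    exact congrFun ((mem_charStab N θ g).mp hg) n
  obtain ⟨η, hη, hηN, hηfix⟩ := exists_fixed_ext p N hidx hcyc hlin hk hk₂ hθ hθdeg hinv hθfix
  obtain ⟨x₀, hx₀⟩ := hcyc.exists_generator
  obtain ⟨g₀, rfl⟩ := QuotientGroup.mk_surjective x₀
  have hgen : ∀ x : G ⧸ N, x ∈ Subgroup.zpowers (g₀ : G ⧸ N) := hx₀
  -- the linear characters attached to the members of the fibre
  have hβ : ∀ x : {x : FixG p M G k // r x = ⟨⟨θ, hθ⟩, hθB, hθdeg, hθP, hθfix⟩},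
      ∃ β : G →* ℂˣ, (∀ n : N, β n = 1) ∧
        ∀ g, (x.1.1 : G → ℂ) g = η g * ((β g : ℂˣ) : ℂ) := by
    intro x
    have hxN : ∀ n : N, (x.1.1 : G → ℂ) n = θ n := by
      intro n
      rw [hr x.1 n, x.2]
    exact gallagher_linear N hθ hη hηN x.1.1.2 hxN
  choose β hβN hβχ using hβ
  have hβp : ∀ x, ∀ g : G, (β x g) ^ p = 1 := by
    intro x g
    have hfixx := x.1.2.2.2
    have e1 : β x ^ k = β x := by
      apply gallagher_inj N hθ hη hηN (β x ^ k) (β x)
      · intro n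
        rw [MonoidHom.pow_apply, hβN x n, one_pow]
      · exact hβN x
      · intro g'
        have e2 := hfixx g'
        rw [hβχ x (g' ^ k), hβχ x g', hηfix g', map_pow] at e2
        rw [MonoidHom.pow_apply]
        exact e2
    have e3 : (β x g) ^ k = β x g := by
      have e4 := congrArg (fun f : G →* ℂˣ => f g) e1
      simpa only [MonoidHom.pow_apply] using e4
    have e5 := hom_pow_k p N hreg hk₁ (β x) (fun n hn => hβN x ⟨n, hn⟩) g
    rw [e3, pow_add, pow_one] at e5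
    exact (mul_eq_left.mp e5.symm)
  have hbij : Function.Bijective (fun x : {x : FixG p M G k //
      r x = ⟨⟨θ, hθ⟩, hθB, hθdeg, hθP, hθfix⟩} =>
      (⟨β x g₀, (mem_rootsOfUnity p _).mpr (hβp x g₀)⟩ : rootsOfUnity p ℂ)) := by
    constructor
    · intro x x' hxx
      have e1 : β x g₀ = β x' g₀ := congrArg Subtype.val hxx
      have e2 : β x = β x' := hom_eq_of_gen N hgen (β x) (β x')
        (fun n hn => hβN x ⟨n, hn⟩) (fun n hn => hβN x' ⟨n, hn⟩) e1
      apply Subtype.ext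
      apply Subtype.ext
      apply Subtype.ext
      funext g
      rw [hβχ x g, hβχ x' g, e2]
    · rintro ⟨z, hz⟩
      have hz' : z ^ p = 1 := (mem_rootsOfUnity p z).mp hz
      obtain ⟨lam, hlamN, hlam0⟩ := exists_hom_of_root p N ha hidx hgen z hz'
      have hlamp : ∀ g : G, (lam g) ^ p = 1 := by
        intro g
        have e1 : lam ^ p = 1 := by
          apply hom_eq_of_gen N hgen (lam ^ p) 1
          · intro n hn
            rw [MonoidHom.pow_apply, hlamN n hn, one_pow]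
          · intro n _
            rfl
          · rw [MonoidHom.pow_apply, hlam0, hz']
            rfl
        have e2 := congrArg (fun f : G →* ℂˣ => f g) e1
        simpa only [MonoidHom.pow_apply, MonoidHom.one_apply] using e2
      have hχ'irr : IsIrrCharacter G (fun g => ((lam g : ℂˣ) : ℂ) * η g) :=
        IsIrrCharacter.mul_linear hη lam
      have hχ'N : ∀ n : N, (fun g => ((lam g : ℂˣ) : ℂ) * η g) (n : G) = θ n := by
        intro n
        show ((lam (n : G) : ℂˣ) : ℂ) * η n = θ n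
        rw [hlamN n n.2, Units.val_one, one_mul, hηN]
      have hχ'B : (⟨_, hχ'irr⟩ : IrrCharacter G) ∈ principalBlock M G :=
        (principal_iff p hM N hreg ⟨_, hχ'irr⟩ ⟨θ, hθ⟩ hχ'N).mpr hθB
      have hχ'deg : ¬ p ∣ charDegree (fun g => ((lam g : ℂˣ) : ℂ) * η g) := by
        rw [charDegree_congr N hχ'N]
        exact hθdeg
      have hχ'fix : ∀ g : G, (fun g => ((lam g : ℂˣ) : ℂ) * η g) (g ^ k) =
          (fun g => ((lam g : ℂˣ) : ℂ) * η g) g := by
        intro g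
        show ((lam (g ^ k) : ℂˣ) : ℂ) * η (g ^ k) = ((lam g : ℂˣ) : ℂ) * η g
        have e1 : lam (g ^ k) = lam g := by
          rw [map_pow, hom_pow_k p N hreg hk₁ lam hlamN g, pow_add, pow_one, hlamp g, mul_one]
        rw [e1, hηfix]
      have hry : r ⟨⟨_, hχ'irr⟩, hχ'B, hχ'deg, hχ'fix⟩ =
          ⟨⟨θ, hθ⟩, hθB, hθdeg, hθP, hθfix⟩ := by
        apply Subtype.ext
        apply Subtype.ext
        funext n
        rw [← hr _ n]
        exact hχ'N n
      refine ⟨⟨⟨⟨_, hχ'irr⟩, hχ'B, hχ'deg, hχ'fix⟩, hry⟩, ?_⟩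
      apply Subtype.ext
      show β ⟨⟨⟨_, hχ'irr⟩, hχ'B, hχ'deg, hχ'fix⟩, hry⟩ g₀ = z
      have e1 : β ⟨⟨⟨_, hχ'irr⟩, hχ'B, hχ'deg, hχ'fix⟩, hry⟩ = lam := by
        apply gallagher_inj N hθ hη hηN
        · exact hβN _
        · intro n
          exact hlamN n n.2
        · intro g
          rw [← hβχ ⟨⟨⟨_, hχ'irr⟩, hχ'B, hχ'deg, hχ'fix⟩, hry⟩ g]
          show ((lam g : ℂˣ) : ℂ) * η g = η g * ((lam g : ℂˣ) : ℂ)
          rw [mul_comm]
      rw [e1, hlam0]
  rw [Nat.card_eq_of_bijective _ hbij, Complex.card_rootsOfUnity]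

open Classical in
/-- The count. -/
theorem card_fixed (p : ℕ) [hp : Fact p.Prime] {M : Ideal AlgInt} (hM : IsPModular p M)
    (P N : Subgroup G) [hN : N.Normal] [Fintype N] {a : ℕ} (ha : 0 < a)
    (hidx : N.index = p ^ a) (hcyc : IsCyclic (G ⧸ N)) (hPN : P ⊔ N = ⊤)
    (hlin : ∀ (ν : N →* ℂˣ) (y : N), ν y ^ (ordCompl[p] (Nat.card G)) = 1)
    {k : ℕ} (hk₁ : ∀ g : G, (∃ j : ℕ, orderOf g = p ^ j) → g ^ k = g ^ (1 + p))
    (hk₂ : ∀ g : G, Nat.Coprime (orderOf g) p → g ^ k = g) :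
    Nat.card (FixG p M G k) = p * Nat.card (FixN p M P N k) := by
  have hp' := hp.out
  have hreg : ∀ g : G, ¬ p ∣ orderOf g → g ∈ N := fun g hg =>
    Cfsg.Agent.Lib.Helper6.mem_of_regular_of_index_pow hp' N hidx hg
  have hr : ∀ x : FixG p M G k, ∃ y : FixN p M P N k,
      ∀ n : N, (x.1 : G → ℂ) n = (y.1 : N → ℂ) n := by
    intro x
    obtain ⟨χ, hχB, hχdeg, hχfix⟩ := x
    have hirr := restrict_irr p N hidx hcyc χ.2 hχdeg
    refine ⟨⟨⟨fun n : N => (χ : G → ℂ) n, hirr⟩, ?_, ?_, ?_, ?_⟩, fun n => rfl⟩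
    · exact (principal_iff p hM N hreg χ ⟨_, hirr⟩ (fun n => rfl)).mp hχB
    · show ¬ p ∣ charDegree (fun n : N => (χ : G → ℂ) n)
      rw [charDegree_restrict]
      exact hχdeg
    · intro x _ n
      exact IsIrrCharacter.isClassFunction χ.2 (n : G) x
    · intro n
      show (χ : G → ℂ) ((n ^ k : N) : G) = (χ : G → ℂ) n
      rw [Subgroup.coe_pow]
      exact hχfix n
  choose r hr using hr
  haveI : Fintype (IrrCharacter G) := irrFintype
  haveI : Fintype (IrrCharacter N) := irrFintype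
  haveI : Fintype (FixG p M G k) := Fintype.ofFinite _
  haveI : Fintype (FixN p M P N k) := Fintype.ofFinite _
  have hfib : ∀ y : FixN p M P N k, Fintype.card {x : FixG p M G k // r x = y} = p := by
    intro y
    rw [← Nat.card_eq_fintype_card]
    exact card_fibre p hM P N ha hidx hcyc hPN hlin hk₁ hk₂ r hr y
  rw [Nat.card_eq_fintype_card, Nat.card_eq_fintype_card,
    ← Fintype.card_congr (Equiv.sigmaFiberEquiv r), Fintype.card_sigma,
    Finset.sum_congr rfl (fun y _ => hfib y), Finset.sum_const, Finset.card_univ, smul_eq_mul,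
    mul_comm]

end Cfsg.Agent.Lib.Helper6.PRes
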