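import Mathlib
import Cfsg.Prelude.Def_Blocks
import Cfsg.Agent.Lib.Helper6.PrincCover

set_option autoImplicit false
set_option linter.unusedSectionVars false
set_option linter.unusedVariables false

/-!
# Characters of degree prime to `p` in the principal block

* `sum_regular_not_mem_iff`: the sum of an irreducible character over the `p`-regular elements
  is a unit of the local ring exactly when the character lies in the principal block and has
  degree prime to `p`;
* `exists_pprime_principal_over`: for a subgroup of index prime to `p`, every character of degree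
  prime to `p` in its principal block lies under such a character of the group.
-/

namespace Cfsg.Agent.Lib.Helper6

open Cfsg
open scoped ComplexConjugate

universe u

variable {G : Type u} [Group G] [Fintype G] {M : Ideal AlgInt}

open Classical in
theorem sum_regular_eq_deg_mul (χ : IrrCharacter G) (p : ℕ) :
    ∑ x ∈ Finset.univ.filter (fun x : G => ¬ p ∣ orderOf x), (χ : G → ℂ) x
      = (charDegree (χ : G → ℂ) : ℂ) * omega (χ : G → ℂ) (regInd p) := by
  have h1 := Cfsg.Agent.Lib.Helper24.CharBasic.char_one_nat
    (Cfsg.Agent.Lib.Helper1.IsIrrCharacter.isCharacter χ.2)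
  have h0 : (χ : G → ℂ) 1 ≠ 0 := irr_one_ne_zero χ.2
  rw [omega_regInd, ← h1, mul_div_cancel₀ _ h0]

open Classical in
/-- The sum of an irreducible character over the `p`-regular elements is a unit of the local
ring exactly when the character lies in the principal block and has degree prime to `p`. -/
theorem sum_regular_not_mem_iff {p : ℕ} (hM : IsPModular p M) (χ : IrrCharacter G) :
    ¬ MemLocalIdeal M (∑ x ∈ Finset.univ.filter (fun x : G => ¬ p ∣ orderOf x), (χ : G → ℂ) x)
      ↔ (χ ∈ principalBlock M G ∧ ¬ p ∣ charDegree (χ : G → ℂ)) := by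
  have hmax := hM.2.1
  have hω : MemLocalRing M (omega (χ : G → ℂ) (regInd p)) :=
    omega_memLocalRing hmax χ.2 (isClassFunction_regInd p) (sVal_regInd hmax p)
  constructor
  · intro h
    have hχ : χ ∈ principalBlock M G := by
      by_contra hχ
      apply h
      rw [sum_regular_eq_zero hM χ hχ]
      exact memLocalIdeal_zero hmax
    refine ⟨hχ, fun hdvd => h ?_⟩
    rw [sum_regular_eq_deg_mul]
    exact MemLocalIdeal.mul_right hmax ((memLocalIdeal_natCast_iff hM _).mpr hdvd) hω
  · rintro ⟨hχ, hdeg⟩ hmem
    rw [sum_regular_eq_deg_mul] at hmem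
    rcases (memLocalIdeal_mul_iff hmax (memLocalRing_natCast hmax _) hω).mp hmem with h | h
    · exact hdeg ((memLocalIdeal_natCast_iff hM _).mp h)
    · exact (mem_principalBlock_iff_omega_regInd hM χ).mp hχ h

open Classical in
/-- The sum of a character of the group over the `p`-regular elements of a subgroup, in terms of
the restriction multiplicities. -/
theorem card_mul_sum_regular_sub {p : ℕ} (H : Subgroup G) [Fintype H]
    [Fintype (IrrCharacter G)] (η : IrrCharacter H) :
    (Nat.card G : ℂ) * ∑ x ∈ Finset.univ.filter (fun x : H => ¬ p ∣ orderOf x), (η : H → ℂ) x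
      = (Nat.card H : ℂ) * ∑ χ : IrrCharacter G,
          (∑ x ∈ Finset.univ.filter (fun x : G => ¬ p ∣ orderOf x), (χ : G → ℂ) x) *
            conj (classInner (fun h : H => (χ : G → ℂ) h) (η : H → ℂ)) := by
  have hexp := Cfsg.Agent.Lib.Helper1.classFunction_expansion (isClassFunction_regInd (G := G) p)
  have e : ∀ h : H, (regInd p : H → ℂ) h = ∑ χ : IrrCharacter G,
      classInner (regInd p : G → ℂ) (χ : G → ℂ) * (χ : G → ℂ) h := by
    intro h
    have h1 := congrFun (regInd_res H p) h
    have h2 := congrFun hexp (h : G)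
    rw [← h1]
    show (regInd p : G → ℂ) (h : G) = _
    rw [h2, Finset.sum_apply]
    rfl
  have hsum : ∑ h : H, (regInd p : H → ℂ) h * conj ((η : H → ℂ) h) =
      ∑ χ : IrrCharacter G, classInner (regInd p : G → ℂ) (χ : G → ℂ) *
            ∑ h : H, ((χ : G → ℂ) h * conj ((η : H → ℂ) h)) := by
    calc ∑ h : H, (regInd p : H → ℂ) h * conj ((η : H → ℂ) h)
        = ∑ h : H, ∑ χ : IrrCharacter G, classInner (regInd p : G → ℂ) (χ : G → ℂ) *
            ((χ : G → ℂ) h * conj ((η : H → ℂ) h)) := by
          apply Finset.sum_congr rfl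
          intro h _
          rw [e h, Finset.sum_mul]
          apply Finset.sum_congr rfl
          intro χ _
          ring
      _ = ∑ χ : IrrCharacter G, classInner (regInd p : G → ℂ) (χ : G → ℂ) *
            ∑ h : H, ((χ : G → ℂ) h * conj ((η : H → ℂ) h)) := by
          rw [Finset.sum_comm]
          apply Finset.sum_congr rfl
          intro χ _
          rw [Finset.mul_sum]
  rw [sum_regInd_conj] at hsum
  have hG0 : (Nat.card G : ℂ) ≠ 0 := Nat.cast_ne_zero.mpr Nat.card_pos.ne'
  have hH0 : (Nat.card H : ℂ) ≠ 0 := Nat.cast_ne_zero.mpr Nat.card_pos.ne'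
  have h4 := congrArg conj hsum
  rw [Complex.conj_conj, map_sum] at h4
  rw [h4, Finset.mul_sum, Finset.mul_sum]
  apply Finset.sum_congr rfl
  intro χ _
  have h5 : ∑ h : H, ((χ : G → ℂ) h * conj ((η : H → ℂ) h)) =
      (Nat.card H : ℂ) * classInner (fun h : H => (χ : G → ℂ) h) (η : H → ℂ) := by
    unfold classInner
    rw [← mul_assoc, mul_inv_cancel₀ hH0, one_mul]
  have h6 : classInner (regInd p : G → ℂ) (χ : G → ℂ) = (Nat.card G : ℂ)⁻¹ *
      conj (∑ x ∈ Finset.univ.filter (fun x : G => ¬ p ∣ orderOf x), (χ : G → ℂ) x) := by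
    unfold classInner
    rw [sum_regInd_conj]
  rw [h5, h6, map_mul, map_mul, map_mul, Complex.conj_conj, map_inv₀, Complex.conj_natCast,
    Complex.conj_natCast]
  field_simp

open Classical in
/-- For a subgroup of index prime to `p`, a character of degree prime to `p` in the principal
block of the subgroup lies under a character of degree prime to `p` in the principal block of the
group. -/
theorem exists_pprime_principal_over {p : ℕ} (hM : IsPModular p M) (H : Subgroup G) [Fintype H]
    (hidx : ¬ p ∣ H.index) (η : IrrCharacter H) (hη : η ∈ principalBlock M H)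
    (hdeg : ¬ p ∣ charDegree (η : H → ℂ)) :
    ∃ χ : IrrCharacter G, χ ∈ principalBlock M G ∧ ¬ p ∣ charDegree (χ : G → ℂ) ∧
      classInner (fun h : H => (χ : G → ℂ) h) (η : H → ℂ) ≠ 0 := by
  haveI : Fintype (IrrCharacter G) := Cfsg.Agent.Lib.Helper1.irrFintype
  have hmax := hM.2.1
  by_contra hcon
  push_neg at hcon
  have hkey := card_mul_sum_regular_sub (p := p) H η
  have hηS := (sum_regular_not_mem_iff hM η).mpr ⟨hη, hdeg⟩
  have hmem : MemLocalIdeal M (∑ χ : IrrCharacter G,
          (∑ x ∈ Finset.univ.filter (fun x : G => ¬ p ∣ orderOf x), (χ : G → ℂ) x) *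
            conj (classInner (fun h : H => (χ : G → ℂ) h) (η : H → ℂ))) := by
    apply memLocalIdeal_sum hmax
    intro χ _
    obtain ⟨n, hn⟩ := Cfsg.Agent.Lib.Helper1.IsCharacter.classInner_nat
      (Cfsg.Agent.Lib.Helper1.IsCharacter.restrict
        (Cfsg.Agent.Lib.Helper1.IsIrrCharacter.isCharacter χ.2) H)
      (Cfsg.Agent.Lib.Helper1.IsIrrCharacter.isCharacter η.2)
    rw [hn, Complex.conj_natCast]
    by_cases hχ : χ ∈ principalBlock M G ∧ ¬ p ∣ charDegree (χ : G → ℂ)
    · have h0 := hcon χ hχ.1 hχ.2
      rw [hn] at h0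
      rw [h0, mul_zero]
      exact memLocalIdeal_zero hmax
    · have h1 : MemLocalIdeal M (∑ x ∈ Finset.univ.filter (fun x : G => ¬ p ∣ orderOf x),
          (χ : G → ℂ) x) := by
        by_contra h2
        exact hχ ((sum_regular_not_mem_iff hM χ).mp h2)
      exact MemLocalIdeal.mul_right hmax h1 (memLocalRing_natCast hmax n)
  have hcard : (Nat.card G : ℂ) = (Nat.card H : ℂ) * (H.index : ℂ) := by
    rw [← Nat.cast_mul, Subgroup.card_mul_index]
  have hH0 : (Nat.card H : ℂ) ≠ 0 := Nat.cast_ne_zero.mpr Nat.card_pos.ne'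
  rw [hcard, mul_assoc] at hkey
  have hkey2 := mul_left_cancel₀ hH0 hkey
  rw [← hkey2] at hmem
  have hSring : MemLocalRing M (∑ x ∈ Finset.univ.filter (fun x : H => ¬ p ∣ orderOf x),
      (η : H → ℂ) x) := by
    apply memLocalRing_sum hmax
    intro x _
    exact memLocalRing_of_isIntegral hmax (isIntegral_irr η x)
  rcases (memLocalIdeal_mul_iff hmax (memLocalRing_natCast hmax _) hSring).mp hmem with h | h
  · exact hidx ((memLocalIdeal_natCast_iff hM _).mp h)
  · exact hηS h

end Cfsg.Agent.Lib.Helper6
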