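import Mathlib
import Cfsg.Agent.Lib.Helper10.GalConj
import Cfsg.Agent.Lib.Helper1.CharReal
import Cfsg.Agent.Lib.Helper1.CharPRes
import Cfsg.Agent.Lib.Helper1.CharClifford
import Cfsg.Agent.Lib.Helper6.Cover

set_option autoImplicit false

/-!
# Characters fixed by a Galois automorphism of 2-power order inverting odd roots of unity, part 1

`SigHyp G k e`: `k` is prime to `|G|`, `k ^ (2 ^ e) = 1` modulo `|G|`, and `g ^ k = g⁻¹` for every
`g` of odd order.  `sigPerm`: the permutation `χ ↦ (g ↦ χ (g ^ k))` of the irreducible characters.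
`sum_eq_sum_fixed`: parity counting for a permutation of 2-power order.
`eq_one_of_fixed`: a fixed irreducible character trivial on a normal subgroup of odd index is
trivial.
-/

namespace Cfsg.Agent.Lib.Helper6.SigFix

open Cfsg Cfsg.Agent.Lib.Helper1
open scoped ComplexConjugate

universe u

/-- The hypotheses on the exponent `k`. -/
structure SigHyp (G : Type u) [Group G] (k e : ℕ) : Prop where
  cop : Nat.Coprime k (Nat.card G)
  pw : k ^ (2 ^ e) ≡ 1 [MOD Nat.card G]
  inv : ∀ g : G, Odd (orderOf g) → g ^ k = g⁻¹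

theorem SigHyp.subgroup {G : Type u} [Group G] [Finite G] {k e : ℕ} (h : SigHyp G k e)
    (H : Subgroup G) : SigHyp ↥H k e := by
  have hdvd : Nat.card H ∣ Nat.card G := Subgroup.card_subgroup_dvd_card H
  refine ⟨Nat.Coprime.coprime_dvd_right hdvd h.cop, h.pw.of_dvd hdvd, ?_⟩
  intro g hg
  apply Subtype.ext
  rw [Subgroup.coe_pow, Subgroup.coe_inv]
  exact h.inv (g : G) (by rwa [Subgroup.orderOf_coe])

theorem sum_pow_comp {G : Type u} [Group G] [Fintype G] {k : ℕ}
    (hk : Nat.Coprime k (Nat.card G)) (F : G → ℂ) : ∑ g : G, F (g ^ k) = ∑ g : G, F g :=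
  Equiv.sum_comp (powCoprime hk.symm) F

theorem classInner_pow {G : Type u} [Group G] [Fintype G] {k : ℕ}
    (hk : Nat.Coprime k (Nat.card G)) (f₁ f₂ : G → ℂ) :
    classInner (fun g => f₁ (g ^ k)) (fun g => f₂ (g ^ k)) = classInner f₁ f₂ := by
  unfold classInner
  congr 1
  exact sum_pow_comp hk (fun g => f₁ g * conj (f₂ g))

theorem SigHyp.pow_pow {G : Type u} [Group G] [Finite G] {k e : ℕ} (h : SigHyp G k e) (g : G) :
    g ^ (k ^ (2 ^ e)) = g := by
  have h1 : k ^ (2 ^ e) % Nat.card G = 1 % Nat.card G := h.pw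
  rw [← pow_mod_natCard, h1, pow_mod_natCard, pow_one]

/-- The Galois conjugate of an irreducible character. -/
noncomputable def sigFun {G : Type u} [Group G] [Finite G] {k : ℕ}
    (hk : Nat.Coprime k (Nat.card G)) (χ : IrrCharacter G) : IrrCharacter G :=
  ⟨fun g => (χ : G → ℂ) (g ^ k), Cfsg.Agent.Lib.Helper10.GalConj.isIrrCharacter_pow k hk χ.2⟩

theorem sigFun_injective {G : Type u} [Group G] [Finite G] {k : ℕ}
    (hk : Nat.Coprime k (Nat.card G)) : Function.Injective (sigFun (G := G) hk) := by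
  intro χ χ' h
  apply Subtype.ext
  funext g
  have h1 : (sigFun hk χ : G → ℂ) ((powCoprime hk.symm).symm g) =
      (sigFun hk χ' : G → ℂ) ((powCoprime hk.symm).symm g) := by rw [h]
  have h2 : ((powCoprime hk.symm).symm g) ^ k = g := (powCoprime hk.symm).apply_symm_apply g
  have h3 : (χ : G → ℂ) (((powCoprime hk.symm).symm g) ^ k) =
      (χ' : G → ℂ) (((powCoprime hk.symm).symm g) ^ k) := h1
  rwa [h2] at h3

/-- The Galois conjugation as a permutation of the irreducible characters. -/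
noncomputable def sigPerm {G : Type u} [Group G] [Fintype G] {k : ℕ}
    (hk : Nat.Coprime k (Nat.card G)) : Equiv.Perm (IrrCharacter G) :=
  Equiv.ofBijective (sigFun hk) (by
    haveI : Fintype (IrrCharacter G) := irrFintype
    exact Finite.injective_iff_bijective.mp (sigFun_injective hk))

theorem sigPerm_apply {G : Type u} [Group G] [Fintype G] {k : ℕ}
    (hk : Nat.Coprime k (Nat.card G)) (χ : IrrCharacter G) (g : G) :
    (sigPerm hk χ : G → ℂ) g = (χ : G → ℂ) (g ^ k) := rfl

theorem sigPerm_pow_apply {G : Type u} [Group G] [Fintype G] {k : ℕ}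
    (hk : Nat.Coprime k (Nat.card G)) (m : ℕ) (χ : IrrCharacter G) (g : G) :
    (((sigPerm hk) ^ m) χ : G → ℂ) g = (χ : G → ℂ) (g ^ (k ^ m)) := by
  induction m generalizing g with
  | zero => simp
  | succ m ih =>
    rw [pow_succ', Equiv.Perm.mul_apply, sigPerm_apply, ih, ← pow_mul, pow_succ']

theorem sigPerm_pow_eq_one {G : Type u} [Group G] [Fintype G] {k e : ℕ} (h : SigHyp G k e) :
    (sigPerm h.cop) ^ (2 ^ e) = 1 := by
  apply Equiv.ext
  intro χ
  apply Subtype.ext
  funext g
  rw [sigPerm_pow_apply, h.pow_pow]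
  rfl

theorem sigPerm_eq_iff {G : Type u} [Group G] [Fintype G] {k : ℕ}
    (hk : Nat.Coprime k (Nat.card G)) (χ : IrrCharacter G) :
    sigPerm hk χ = χ ↔ ∀ g : G, (χ : G → ℂ) (g ^ k) = (χ : G → ℂ) g := by
  constructor
  · intro h g
    rw [← sigPerm_apply hk χ g, h]
  · intro h
    apply Subtype.ext
    funext g
    rw [sigPerm_apply, h]

/-- Parity counting: for a permutation of 2-power order and an invariant weight with values in
`ZMod 2`, the total weight is the weight of the fixed points. -/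
theorem sum_eq_sum_fixed {X : Type*} [Fintype X] [DecidableEq X] (e : ℕ) (σ : Equiv.Perm X)
    (hσ : σ ^ (2 ^ e) = 1) (w : X → ZMod 2) (hw : ∀ x, w (σ x) = w x) :
    ∑ x, w x = ∑ x ∈ Finset.univ.filter (fun x => σ x = x), w x := by
  induction e generalizing σ with
  | zero =>
    have h1 : σ = 1 := by simpa using hσ
    rw [h1]
    simp
  | succ e ih =>
    have hτ : (σ * σ) ^ (2 ^ e) = 1 := by
      rw [← pow_two, ← pow_mul, ← pow_succ']
      exact hσ
    have hwτ : ∀ x, w ((σ * σ) x) = w x := by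
      intro x
      rw [Equiv.Perm.mul_apply, hw, hw]
    rw [ih (σ * σ) hτ hwτ]
    have hsub : Finset.univ.filter (fun x => σ x = x) ⊆
        Finset.univ.filter (fun x => (σ * σ) x = x) := by
      intro x hx
      rw [Finset.mem_filter] at hx ⊢
      refine ⟨Finset.mem_univ _, ?_⟩
      rw [Equiv.Perm.mul_apply, hx.2, hx.2]
    rw [← Finset.sum_sdiff hsub]
    have hz : ∑ x ∈ (Finset.univ.filter (fun x => (σ * σ) x = x)) \
        (Finset.univ.filter (fun x => σ x = x)), w x = 0 := by
      apply Finset.sum_involution (fun x _ => σ x)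
      · intro x hx
        rw [hw]
        exact CharTwo.add_self_eq_zero (w x)
      · intro x hx _ h
        rw [Finset.mem_sdiff, Finset.mem_filter, Finset.mem_filter] at hx
        exact hx.2 ⟨Finset.mem_univ _, h⟩
      · intro x hx
        rw [Finset.mem_sdiff, Finset.mem_filter, Finset.mem_filter] at hx ⊢
        obtain ⟨⟨_, h1⟩, h2⟩ := hx
        rw [Equiv.Perm.mul_apply] at h1
        refine ⟨⟨Finset.mem_univ _, ?_⟩, ?_⟩
        · rw [Equiv.Perm.mul_apply, h1]
        · rintro ⟨_, h3⟩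
          exact h2 ⟨Finset.mem_univ _, σ.injective h3⟩
      · intro x hx
        rw [Finset.mem_sdiff, Finset.mem_filter] at hx
        have h1 := hx.1.2
        rwa [Equiv.Perm.mul_apply] at h1
    rw [hz, zero_add]

theorem pow_succ_mem {G : Type u} [Group G] [Finite G] {k e : ℕ} (h : SigHyp G k e)
    (N : Subgroup G) [N.Normal] (hidx : Odd N.index) (g : G) : g ^ (k + 1) ∈ N := by
  obtain ⟨a, m', hm', hord⟩ := Nat.exists_eq_two_pow_mul_odd (orderOf_pos g).ne'
  have hx : Odd (orderOf (g ^ (2 ^ a))) := by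
    have h1 : (g ^ (2 ^ a)) ^ m' = 1 := by rw [← pow_mul, ← hord, pow_orderOf_eq_one]
    exact Odd.of_dvd_nat hm' (orderOf_dvd_of_pow_eq_one h1)
  have h2 := h.inv _ hx
  have h3 : g ^ (2 ^ a * (k + 1)) = 1 := by
    rw [pow_mul, pow_succ, h2, inv_mul_cancel]
  have h4 : ((g : G ⧸ N)) ^ (2 ^ a * (k + 1)) = 1 := by
    rw [← QuotientGroup.mk_pow, h3]
    rfl
  have h5 : orderOf (g : G ⧸ N) ∣ 2 ^ a * (k + 1) := orderOf_dvd_of_pow_eq_one h4
  have h6 : orderOf (g : G ⧸ N) ∣ N.index := by
    rw [Subgroup.index_eq_card]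
    exact orderOf_dvd_natCard _
  have h7 : Nat.Coprime (orderOf (g : G ⧸ N)) (2 ^ a) := by
    apply Nat.Coprime.pow_right
    exact Nat.coprime_two_right.mpr (Odd.of_dvd_nat hidx h6)
  have h8 : orderOf (g : G ⧸ N) ∣ k + 1 := h7.dvd_of_dvd_mul_left h5
  have h9 : (g : G ⧸ N) ^ (k + 1) = 1 := orderOf_dvd_iff_pow_eq_one.mp h8
  rw [← QuotientGroup.mk_pow] at h9
  exact (QuotientGroup.eq_one_iff _).mp h9

theorem pow_index_mem {G : Type u} [Group G] [Finite G] (N : Subgroup G) [N.Normal] (g : G) :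
    g ^ N.index ∈ N := by
  have h1 : (g : G ⧸ N) ^ N.index = 1 := by
    rw [Subgroup.index_eq_card]
    exact pow_card_eq_one'
  rw [← QuotientGroup.mk_pow] at h1
  exact (QuotientGroup.eq_one_iff _).mp h1

/-- A fixed irreducible character lying over the trivial character of a normal subgroup of odd
index is trivial. -/
theorem eq_one_of_fixed {G : Type u} [Group G] [Fintype G] {k e : ℕ} (h : SigHyp G k e)
    (N : Subgroup G) [hN : N.Normal] [Fintype N] (hidx : Odd N.index) {β : G → ℂ}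
    (hβ : IsIrrCharacter G β)
    (hcon : classInner (fun n : N => β n) (fun _ : N => (1 : ℂ)) ≠ 0)
    (hfix : ∀ g, β (g ^ k) = β g) : β = fun _ => 1 := by
  have h1N : IsIrrCharacter N (fun _ : N => (1 : ℂ)) := isIrrCharacter_one
  have hres := restrict_of_invariant N hβ h1N hcon (fun g => rfl)
  have hker : ∀ n ∈ N, β n = β 1 := by
    intro n hn
    have e1 := congrFun hres ⟨n, hn⟩
    have e2 := congrFun hres 1
    simp only [Pi.smul_apply, smul_eq_mul, mul_one] at e1 e2
    rw [Subgroup.coe_one] at e2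
    rw [e1, e2]
  obtain ⟨β', hβ', hββ'⟩ := IsIrrCharacter.deflate N hβ hker
  have hreal : ∀ c : G ⧸ N, (β' c).im = 0 := by
    intro c
    obtain ⟨g, rfl⟩ := QuotientGroup.mk_surjective c
    have e1 : β' ((g : G ⧸ N))⁻¹ = conj (β' (g : G ⧸ N)) :=
      IsCharacter.inv (IsIrrCharacter.isCharacter hβ') _
    have e2 : ((g : G ⧸ N))⁻¹ = ((g ^ k : G) : G ⧸ N) := by
      have h2 := pow_succ_mem h N hidx g
      have h3 : ((g ^ (k + 1) : G) : G ⧸ N) = 1 := (QuotientGroup.eq_one_iff _).mpr h2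
      rw [pow_succ, QuotientGroup.mk_mul] at h3
      exact (eq_inv_of_mul_eq_one_left h3).symm
    rw [e2, ← hββ', hfix, hββ'] at e1
    exact Complex.conj_eq_iff_im.mp e1.symm
  have hodd : Odd (Nat.card (G ⧸ N)) := by rwa [← Subgroup.index_eq_card]
  haveI : Fintype (G ⧸ N) := Fintype.ofFinite _
  have h1 := real_irr_eq_one_of_odd hodd hβ' hreal
  funext g
  rw [hββ', h1]

end Cfsg.Agent.Lib.Helper6.SigFix
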