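import Mathlib
import Cfsg.Agent.Lib.Helper6.SigFix1
import Cfsg.Agent.Lib.Helper1.CharComplete
import Cfsg.Agent.Lib.Helper1.CharInd
import Cfsg.Agent.Lib.Helper1.CharInt
import Cfsg.Agent.Lib.Helper1.CharMore
import Cfsg.Agent.Lib.Helper25.Brauer2
import Cfsg.Agent.Lib.Helper6.Central

set_option autoImplicit false

/-!
# Characters fixed by a Galois automorphism of 2-power order inverting odd roots of unity, part 2

`parity`: for a fixed character `Ψ` the multiplicities of the trivial characters in `Ψ` and in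
its restriction to a normal subgroup of odd index have the same parity.
`unique_fixed`: at most one fixed irreducible character lies over a given irreducible character
of a normal subgroup of odd index.  `exists_fixed`: there is one if the character below is fixed.
-/

namespace Cfsg.Agent.Lib.Helper6.SigFix

open Cfsg Cfsg.Agent.Lib.Helper1
open scoped ComplexConjugate

universe u

theorem parity {G : Type u} [Group G] [Fintype G] {k e : ℕ} (h : SigHyp G k e)
    (N : Subgroup G) [hN : N.Normal] [Fintype N] (hidx : Odd N.index) {Ψ : G → ℂ}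
    (hΨ : IsCharacter G Ψ) (hfix : ∀ g, Ψ (g ^ k) = Ψ g) :
    ∃ a b : ℕ, classInner (fun n : N => Ψ n) (fun _ : N => (1 : ℂ)) = a ∧
      classInner Ψ (fun _ : G => (1 : ℂ)) = b ∧ a % 2 = b % 2 := by
  classical
  haveI : Fintype (IrrCharacter G) := irrFintype
  obtain ⟨m, hm, hsum⟩ := IsCharacter.eq_sum_irr hΨ
  have hnn : ∀ α : IrrCharacter G, ∃ n : ℕ,
      classInner (fun x : N => (α : G → ℂ) x) (fun _ : N => (1 : ℂ)) = (n : ℂ) := fun α =>
    IsCharacter.classInner_irr_nat (IsCharacter.restrict (IsIrrCharacter.isCharacter α.2) N)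
      isIrrCharacter_one
  choose nn hnn using hnn
  have htrivirr : IsIrrCharacter G (fun _ : G => (1 : ℂ)) := isIrrCharacter_one
  refine ⟨∑ α, m α * nn α, m ⟨fun _ => 1, htrivirr⟩, ?_, ?_, ?_⟩
  · have e1 : (fun n : N => Ψ n) =
        ∑ α : IrrCharacter G, (m α : ℂ) • (fun n : N => (α : G → ℂ) n) := by
      funext n
      rw [hsum]
      simp only [Finset.sum_apply, Pi.smul_apply, smul_eq_mul]
    rw [e1, classInner_sum_left]
    push_cast
    refine Finset.sum_congr rfl (fun α _ => ?_)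
    rw [classInner_smul_left, hnn]
  · exact hm ⟨fun _ => 1, htrivirr⟩
  · have hσ := sigPerm_pow_eq_one h
    have hmσ : ∀ α, m (sigPerm h.cop α) = m α := by
      intro α
      have e2 := classInner_pow h.cop Ψ (α : G → ℂ)
      have e3 : (fun g : G => Ψ (g ^ k)) = Ψ := funext hfix
      rw [e3] at e2
      have e1 : classInner Ψ ((sigPerm h.cop α : IrrCharacter G) : G → ℂ) =
          classInner Ψ (α : G → ℂ) := e2
      rw [hm, hm] at e1
      exact_mod_cast e1
    have hnσ : ∀ α, nn (sigPerm h.cop α) = nn α := by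
      intro α
      have hN' := (h.subgroup N).cop
      have e2 := classInner_pow hN' (fun x : N => (α : G → ℂ) x) (fun _ : N => (1 : ℂ))
      have e1 : classInner (fun x : N => ((sigPerm h.cop α : IrrCharacter G) : G → ℂ) x)
          (fun _ : N => (1 : ℂ)) =
          classInner (fun x : N => (α : G → ℂ) x) (fun _ : N => (1 : ℂ)) := e2
      rw [hnn, hnn] at e1
      exact_mod_cast e1
    have hw : ∀ α, ((m (sigPerm h.cop α) * nn (sigPerm h.cop α) : ℕ) : ZMod 2) =
        ((m α * nn α : ℕ) : ZMod 2) := by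
      intro α
      rw [hmσ, hnσ]
    have hpar := sum_eq_sum_fixed e (sigPerm h.cop) hσ
      (fun α => ((m α * nn α : ℕ) : ZMod 2)) hw
    have hfixsum : ∑ α ∈ Finset.univ.filter (fun α => sigPerm h.cop α = α),
        ((m α * nn α : ℕ) : ZMod 2) = ((m ⟨fun _ => 1, htrivirr⟩ : ℕ) : ZMod 2) := by
      rw [Finset.sum_eq_single (⟨fun _ => 1, htrivirr⟩ : IrrCharacter G)]
      · have e1 : nn ⟨fun _ => 1, htrivirr⟩ = 1 := by
          have e2 := hnn ⟨fun _ => 1, htrivirr⟩
          have e3 : classInner (fun _ : N => (1 : ℂ)) (fun _ : N => (1 : ℂ)) = 1 :=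
            classInner_irr_self (isIrrCharacter_one (G := N))
          have e4 : ((nn ⟨fun _ => 1, htrivirr⟩ : ℕ) : ℂ) = 1 := by
            rw [← e2]
            exact e3
          exact_mod_cast e4
        rw [e1, mul_one]
      · intro α hα hne
        rw [Finset.mem_filter] at hα
        have hαfix := (sigPerm_eq_iff h.cop α).mp hα.2
        have hn0 : nn α = 0 := by
          by_contra hn
          apply hne
          have hcon : classInner (fun x : N => (α : G → ℂ) x) (fun _ : N => (1 : ℂ)) ≠ 0 := by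
            rw [hnn]
            exact_mod_cast hn
          apply Subtype.ext
          exact eq_one_of_fixed h N hidx α.2 hcon hαfix
        rw [hn0, mul_zero, Nat.cast_zero]
      · intro hnot
        exfalso
        apply hnot
        rw [Finset.mem_filter]
        refine ⟨Finset.mem_univ _, ?_⟩
        rw [sigPerm_eq_iff]
        intro g
        rfl
    have hfinal : ((∑ α, m α * nn α : ℕ) : ZMod 2) =
        ((m ⟨fun _ => 1, htrivirr⟩ : ℕ) : ZMod 2) := by
      rw [Nat.cast_sum, hpar, hfixsum]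
    exact (ZMod.natCast_eq_natCast_iff' _ _ 2).mp hfinal

theorem unique_fixed {G : Type u} [Group G] [Fintype G] {k e : ℕ} (h : SigHyp G k e)
    (N : Subgroup G) [hN : N.Normal] [Fintype N] (hidx : Odd N.index) {θ : N → ℂ}
    (hθ : IsIrrCharacter N θ) {χ χ' : G → ℂ} (hχ : IsIrrCharacter G χ)
    (hχ' : IsIrrCharacter G χ') (hc : classInner (fun n : N => χ n) θ ≠ 0)
    (hc' : classInner (fun n : N => χ' n) θ ≠ 0) (hfix : ∀ g, χ (g ^ k) = χ g)
    (hfix' : ∀ g, χ' (g ^ k) = χ' g) : χ' = χ := by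
  classical
  haveI : Fintype (IrrCharacter N) := irrFintype
  obtain ⟨c, hcn⟩ := IsCharacter.classInner_irr_nat
    (IsCharacter.restrict (IsIrrCharacter.isCharacter hχ) N) hθ
  obtain ⟨c', hcn'⟩ := IsCharacter.classInner_irr_nat
    (IsCharacter.restrict (IsIrrCharacter.isCharacter hχ') N) hθ
  have hS : ∀ n : N, χ n = (c : ℂ) *
      ∑ φ ∈ Cfsg.Agent.Lib.Helper6.orbitFinset N θ, (φ : N → ℂ) n := by
    intro n
    rw [← hcn]
    exact Cfsg.Agent.Lib.Helper6.clifford_finset N hχ hθ hc n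
  have hS' : ∀ n : N, χ' n = (c' : ℂ) *
      ∑ φ ∈ Cfsg.Agent.Lib.Helper6.orbitFinset N θ, (φ : N → ℂ) n := by
    intro n
    rw [← hcn']
    exact Cfsg.Agent.Lib.Helper6.clifford_finset N hχ' hθ hc' n
  have key : ∀ (A B : G → ℂ), IsCharacter G A → IsCharacter G B → (∀ g, A (g ^ k) = A g) →
      (∀ g, B (g ^ k) = B g) → ∃ a b : ℕ,
        classInner (fun n : N => A n) (fun n : N => B n) = a ∧ classInner A B = b ∧
          a % 2 = b % 2 := by
    intro A B hA hB hAf hBf
    have hΨ : IsCharacter G (A * fun g => conj (B g)) := IsCharacter.mul hA (IsCharacter.conj hB)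
    obtain ⟨a, b, ha, hb, hab⟩ := parity h N hidx hΨ (by
      intro g
      simp only [Pi.mul_apply]
      rw [hAf, hBf])
    refine ⟨a, b, ?_, ?_, hab⟩
    · rw [← ha]
      unfold classInner
      congr 1
      refine Finset.sum_congr rfl (fun n _ => ?_)
      simp
    · rw [← hb]
      unfold classInner
      congr 1
      refine Finset.sum_congr rfl (fun n _ => ?_)
      simp
  have hres : ∀ (A B : G → ℂ) (cA cB : ℕ),
      (∀ n : N, A n = (cA : ℂ) *
        ∑ φ ∈ Cfsg.Agent.Lib.Helper6.orbitFinset N θ, (φ : N → ℂ) n) →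
      (∀ n : N, B n = (cB : ℂ) *
        ∑ φ ∈ Cfsg.Agent.Lib.Helper6.orbitFinset N θ, (φ : N → ℂ) n) →
      classInner (fun n : N => A n) (fun n : N => B n) = (cA : ℂ) * (cB : ℂ) *
        classInner (fun n : N => ∑ φ ∈ Cfsg.Agent.Lib.Helper6.orbitFinset N θ, (φ : N → ℂ) n)
          (fun n : N => ∑ φ ∈ Cfsg.Agent.Lib.Helper6.orbitFinset N θ, (φ : N → ℂ) n) := by
    intro A B cA cB hA hB
    unfold classInner
    have e : ∀ n : N, A n * conj (B n) = (cA : ℂ) * (cB : ℂ) *
        ((∑ φ ∈ Cfsg.Agent.Lib.Helper6.orbitFinset N θ, (φ : N → ℂ) n) *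
          conj (∑ φ ∈ Cfsg.Agent.Lib.Helper6.orbitFinset N θ, (φ : N → ℂ) n)) := by
      intro n
      rw [hA, hB, map_mul, Complex.conj_natCast]
      ring
    rw [Finset.sum_congr rfl (fun n _ => e n), ← Finset.mul_sum]
    ring
  obtain ⟨a₁, b₁, ha₁, hb₁, hab₁⟩ := key χ χ (IsIrrCharacter.isCharacter hχ)
    (IsIrrCharacter.isCharacter hχ) hfix hfix
  obtain ⟨a₂, b₂, ha₂, hb₂, hab₂⟩ := key χ' χ' (IsIrrCharacter.isCharacter hχ')
    (IsIrrCharacter.isCharacter hχ') hfix' hfix'
  obtain ⟨a₃, b₃, ha₃, hb₃, hab₃⟩ := key χ' χ (IsIrrCharacter.isCharacter hχ')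
    (IsIrrCharacter.isCharacter hχ) hfix' hfix
  have e1 := hres χ χ c c hS hS
  have e2 := hres χ' χ' c' c' hS' hS'
  have e3 := hres χ' χ c' c hS' hS
  have hb₁' : b₁ = 1 := by
    rw [classInner_irr_self hχ] at hb₁
    exact_mod_cast hb₁.symm
  have hb₂' : b₂ = 1 := by
    rw [classInner_irr_self hχ'] at hb₂
    exact_mod_cast hb₂.symm
  have hsq : a₃ * a₃ = a₁ * a₂ := by
    have e4 : ((a₃ * a₃ : ℕ) : ℂ) = ((a₁ * a₂ : ℕ) : ℂ) := by
      push_cast
      rw [← ha₁, ← ha₂, ← ha₃, e1, e2, e3]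
      ring
    exact_mod_cast e4
  by_contra hne
  have hb₃0 : b₃ = 0 := by
    rw [classInner_irr_ne hχ' hχ hne] at hb₃
    exact_mod_cast hb₃.symm
  have h1 : a₁ % 2 = 1 := by rw [hab₁, hb₁']
  have h2 : a₂ % 2 = 1 := by rw [hab₂, hb₂']
  have h3 : a₃ % 2 = 0 := by rw [hab₃, hb₃0]
  have h4 : (a₃ * a₃) % 2 = (a₁ * a₂) % 2 := by rw [hsq]
  rw [Nat.mul_mod, h3, Nat.mul_mod a₁, h1, h2] at h4
  exact absurd h4 (by norm_num)

theorem exists_fixed {G : Type u} [Group G] [Fintype G] {k e : ℕ} (h : SigHyp G k e)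
    (N : Subgroup G) [hN : N.Normal] [Fintype N] (hidx : Odd N.index) {θ : N → ℂ}
    (hθ : IsIrrCharacter N θ) (hθfix : ∀ n : N, θ (n ^ k) = θ n) :
    ∃ χ : IrrCharacter G, classInner (fun n : N => (χ : G → ℂ) n) θ ≠ 0 ∧
      ∀ g, (χ : G → ℂ) (g ^ k) = (χ : G → ℂ) g := by
  classical
  haveI : Fintype (IrrCharacter G) := irrFintype
  have hmm : ∀ χ : IrrCharacter G, ∃ n : ℕ,
      classInner (fun x : N => (χ : G → ℂ) x) θ = (n : ℂ) := fun χ =>
    IsCharacter.classInner_irr_nat (IsCharacter.restrict (IsIrrCharacter.isCharacter χ.2) N) hθ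
  choose mm hmm using hmm
  have hexp := classFunction_expansion (indFun_isClassFunction N θ)
  have h1 := congrFun hexp 1
  rw [indFun_one] at h1
  simp only [Finset.sum_apply, Pi.smul_apply, smul_eq_mul] at h1
  have hterm : ∀ χ : IrrCharacter G, classInner (indFun N θ) (χ : G → ℂ) * (χ : G → ℂ) 1 =
      ((mm χ * mm χ * (charStab N θ).index : ℕ) : ℂ) * θ 1 := by
    intro χ
    have e1 : classInner (indFun N θ) (χ : G → ℂ) = (mm χ : ℂ) := by
      rw [frobenius_reciprocity N θ (IsIrrCharacter.isClassFunction χ.2), ← classInner_conj_symm,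
        hmm, Complex.conj_natCast]
    rw [e1]
    by_cases h0 : mm χ = 0
    · rw [h0]
      simp
    · have hc : classInner (fun n : N => (χ : G → ℂ) n) θ ≠ 0 := by
        rw [hmm]
        exact_mod_cast h0
      rw [Cfsg.Agent.Lib.Helper25.Brauer.clifford_one N hθ χ.2 hc, hmm]
      push_cast
      ring
  rw [Finset.sum_congr rfl (fun χ _ => hterm χ), ← Finset.sum_mul] at h1
  have hθ1 : θ 1 ≠ 0 := Cfsg.Agent.Lib.Helper6.irr_one_ne_zero hθ
  have h2 : (N.index : ℂ) =
      ∑ χ : IrrCharacter G, ((mm χ * mm χ * (charStab N θ).index : ℕ) : ℂ) :=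
    mul_right_cancel₀ hθ1 h1
  have h3 : N.index = ∑ χ : IrrCharacter G, mm χ * mm χ * (charStab N θ).index := by
    exact_mod_cast h2
  have hodd : Odd (∑ χ : IrrCharacter G, mm χ * mm χ) := by
    rw [← Finset.sum_mul] at h3
    rw [h3] at hidx
    exact (Nat.odd_mul.mp hidx).1
  have hσ := sigPerm_pow_eq_one h
  have hmσ : ∀ χ, mm (sigPerm h.cop χ) = mm χ := by
    intro χ
    have hN' := (h.subgroup N).cop
    have e2 := classInner_pow hN' (fun x : N => (χ : G → ℂ) x) θ
    have e3 : (fun g : N => θ (g ^ k)) = θ := funext hθfix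
    rw [e3] at e2
    have e1 : classInner (fun x : N => ((sigPerm h.cop χ : IrrCharacter G) : G → ℂ) x) θ =
        classInner (fun x : N => (χ : G → ℂ) x) θ := e2
    rw [hmm, hmm] at e1
    exact_mod_cast e1
  have hpar := sum_eq_sum_fixed e (sigPerm h.cop) hσ
    (fun χ => ((mm χ * mm χ : ℕ) : ZMod 2)) (by
      intro χ
      rw [hmσ])
  have hne : ∑ χ : IrrCharacter G, ((mm χ * mm χ : ℕ) : ZMod 2) ≠ 0 := by
    rw [← Nat.cast_sum, Ne, ZMod.natCast_eq_zero_iff]
    exact fun hd => (Nat.not_even_iff_odd.mpr hodd) (even_iff_two_dvd.mpr hd)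
  rw [hpar] at hne
  obtain ⟨χ, hχmem, hχne⟩ := Finset.exists_ne_zero_of_sum_ne_zero hne
  rw [Finset.mem_filter] at hχmem
  refine ⟨χ, ?_, (sigPerm_eq_iff h.cop χ).mp hχmem.2⟩
  rw [hmm]
  intro h0
  apply hχne
  have h00 : mm χ = 0 := by exact_mod_cast h0
  rw [h00]
  simp

end Cfsg.Agent.Lib.Helper6.SigFix
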