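import Mathlib
import Cfsg.Agent.Lib.Helper6.SigFix2
import Cfsg.Agent.Lib.Helper1.CharDetExt
import Cfsg.Agent.Lib.Helper1.CharClifford2
import Cfsg.Agent.S0886
import Cfsg.Agent.S0888

set_option autoImplicit false

/-!
# Characters fixed by a Galois automorphism of 2-power order inverting odd roots of unity, part 3

Fixed extensions of fixed invariant characters of normal subgroups of odd index, and the main
theorem: exactly one fixed irreducible character lies over a fixed irreducible character of a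
normal subgroup of odd index.
-/

namespace Cfsg.Agent.Lib.Helper6.SigFix

open Cfsg Cfsg.Agent.Lib.Helper1
open scoped ComplexConjugate

universe u

theorem comm_pow_aux {M : Type*} [CommMonoid M] (b : M) (k r : ℕ) :
    (b ^ k) ^ (r + 1) * b * b ^ (r + 1) = (b ^ (k + 1)) ^ (r + 1) * b := by
  rw [← pow_mul, ← pow_mul, ← pow_succ, ← pow_add, ← pow_succ]
  congr 1
  ring

/-- A fixed character with an extension has a fixed extension. -/
theorem fixed_ext_of_ext {G : Type u} [Group G] [Fintype G] {k e : ℕ} (h : SigHyp G k e)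
    (N : Subgroup G) [hN : N.Normal] [Fintype N] (hidx : Odd N.index) {θ : N → ℂ}
    (hθ : IsIrrCharacter N θ) (hθfix : ∀ n : N, θ (n ^ k) = θ n) {η : G → ℂ}
    (hη : IsIrrCharacter G η) (hηN : ∀ n : N, η n = θ n) :
    ∃ χ : G → ℂ, IsIrrCharacter G χ ∧ (∀ n : N, χ n = θ n) ∧ ∀ g, χ (g ^ k) = χ g := by
  have hησ : IsIrrCharacter G (fun g => η (g ^ k)) :=
    Cfsg.Agent.Lib.Helper10.GalConj.isIrrCharacter_pow k h.cop hη
  have hησN : ∀ n : N, (fun g => η (g ^ k)) (n : G) = θ n := by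
    intro n
    have e1 : ((n : G)) ^ k = ((n ^ k : N) : G) := (Subgroup.coe_pow N n k).symm
    show η ((n : G) ^ k) = θ n
    rw [e1, hηN, hθfix]
  obtain ⟨β, hβN, hβ⟩ := gallagher_linear N hθ hη hηN hησ hησN
  have hβ' : ∀ g, η (g ^ k) = η g * ((β g : ℂˣ) : ℂ) := hβ
  have hidx' := hidx
  obtain ⟨r, hr⟩ := hidx
  refine ⟨fun g => (((β ^ (r + 1)) g : ℂˣ) : ℂ) * η g,
    IsIrrCharacter.mul_linear hη (β ^ (r + 1)), ?_, ?_⟩
  · intro n
    show (((β ^ (r + 1)) (n : G) : ℂˣ) : ℂ) * η n = θ n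
    rw [MonoidHom.pow_apply, hβN, one_pow, Units.val_one, one_mul, hηN]
  · intro g
    have e1 : (β g) ^ (k + 1) = 1 := by
      rw [← map_pow]
      exact hβN ⟨g ^ (k + 1), pow_succ_mem h N hidx' g⟩
    have e2 : (β g) ^ (2 * r + 1) = 1 := by
      rw [← map_pow, ← hr]
      exact hβN ⟨g ^ N.index, pow_index_mem N g⟩
    have e3 : (β (g ^ k)) ^ (r + 1) * β g = (β g) ^ (r + 1) := by
      have e4 : (β (g ^ k)) ^ (r + 1) * β g * (β g) ^ (r + 1) =
          (β g) ^ (r + 1) * (β g) ^ (r + 1) := by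
        rw [map_pow, comm_pow_aux, e1, one_pow, one_mul]
        have e5 : (β g) ^ (r + 1) * (β g) ^ (r + 1) = (β g) ^ (2 * r + 1) * β g := by
          rw [← pow_succ, ← pow_add]
          congr 1
          ring
        rw [e5, e2, one_mul]
      exact mul_right_cancel e4
    show (((β ^ (r + 1)) (g ^ k) : ℂˣ) : ℂ) * η (g ^ k) = (((β ^ (r + 1)) g : ℂˣ) : ℂ) * η g
    rw [hβ' g, MonoidHom.pow_apply, MonoidHom.pow_apply, ← e3]
    push_cast
    ring

/-- Transport of an invariant fixed character to a subgroup of an intermediate group. -/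
theorem transport {G : Type u} [Group G] [Fintype G] {k : ℕ} (N : Subgroup G) [hN : N.Normal]
    [Fintype N] (P : Subgroup G) (hNP : N ≤ P) {θ : N → ℂ} (hθ : IsIrrCharacter N θ)
    (hθfix : ∀ n : N, θ (n ^ k) = θ n)
    (hinv : ∀ (g : G) (n : N), θ ⟨g * n * g⁻¹, hN.conj_mem n n.2 g⟩ = θ n) :
    IsIrrCharacter (N.subgroupOf P) (θ ∘ Subgroup.subgroupOfEquivOfLe hNP) ∧
    (∀ n : N.subgroupOf P, (θ ∘ Subgroup.subgroupOfEquivOfLe hNP) (n ^ k) =
      (θ ∘ Subgroup.subgroupOfEquivOfLe hNP) n) ∧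
    (∀ (x : P) (n : N.subgroupOf P), (θ ∘ Subgroup.subgroupOfEquivOfLe hNP)
      ⟨x * n * x⁻¹, (Subgroup.normal_subgroupOf (H := P) (N := N)).conj_mem n n.2 x⟩ =
      (θ ∘ Subgroup.subgroupOfEquivOfLe hNP) n) := by
  refine ⟨IsIrrCharacter.comp_mulEquiv hθ _, ?_, ?_⟩
  · intro n
    simp only [Function.comp_apply, map_pow]
    exact hθfix _
  · intro x n
    have e1 := hinv (x : G) (Subgroup.subgroupOfEquivOfLe hNP n)
    simp only [Function.comp_apply]
    rw [← e1]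
    congr 1

theorem transport_apply {G : Type u} [Group G] (N : Subgroup G) (P : Subgroup G) (hNP : N ≤ P)
    (θ : N → ℂ) (n : N) :
    (θ ∘ Subgroup.subgroupOfEquivOfLe hNP)
      ⟨⟨n, hNP n.2⟩, Subgroup.mem_subgroupOf.mpr n.2⟩ = θ n := by
  simp only [Function.comp_apply]
  congr 1

/-- A fixed invariant character of a normal subgroup of odd prime power index has a fixed
extension. -/
theorem exists_fixed_ext_pgroup (p : ℕ) [hp : Fact p.Prime] (j : ℕ) :
    ∀ (G : Type u) [Group G] [Fintype G] (k e : ℕ) (_ : SigHyp G k e)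
      (N : Subgroup G) [hN : N.Normal] [Fintype N], N.index = p ^ j → Odd N.index →
      ∀ (θ : N → ℂ), IsIrrCharacter N θ → (∀ n : N, θ (n ^ k) = θ n) →
        (∀ (g : G) (n : N), θ ⟨g * n * g⁻¹, hN.conj_mem n n.2 g⟩ = θ n) →
        ∃ χ : G → ℂ, IsIrrCharacter G χ ∧ (∀ n : N, χ n = θ n) ∧ ∀ g, χ (g ^ k) = χ g := by
  induction j with
  | zero =>
    intro G _ _ k e h N hN _ hj hodd θ hθ hθfix hinv
    rw [pow_zero] at hj
    have hNtop : N = ⊤ := Subgroup.index_eq_one.mp hj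
    have hmem : ∀ g : G, g ∈ N := fun g => by
      rw [hNtop]
      exact Subgroup.mem_top g
    refine ⟨fun g => θ ⟨g, hmem g⟩, ?_, ?_, ?_⟩
    · exact IsIrrCharacter.comp_mulEquiv hθ
        ((MulEquiv.subgroupCongr hNtop).trans Subgroup.topEquiv).symm
    · intro n
      rfl
    · intro g
      exact hθfix ⟨g, hmem g⟩
  | succ j ih =>
    intro G _ _ k e h N hN _ hj hodd θ hθ hθfix hinv
    classical
    have hp' := hp.out
    have hpodd : Odd p := by
      rw [hj] at hodd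
      exact (Nat.odd_pow_iff (Nat.succ_ne_zero j)).mp hodd
    have hcard : Nat.card (G ⧸ N) = p ^ (j + 1) := by
      rw [← Subgroup.index_eq_card]
      exact hj
    obtain ⟨K, hK⟩ := Sylow.exists_subgroup_card_pow_prime p (n := j) (G := G ⧸ N) (by
      rw [hcard]
      exact pow_dvd_pow p (Nat.le_succ j))
    have hKidx : K.index = p := by
      have e1 := Subgroup.card_mul_index K
      rw [hK, hcard, pow_succ] at e1
      exact Nat.eq_of_mul_eq_mul_left (pow_pos hp'.pos j) e1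
    haveI hKn : K.Normal := by
      apply Subgroup.normal_of_index_eq_minFac_card
      rw [hKidx, hcard, Nat.pow_minFac (Nat.succ_ne_zero j), hp'.minFac_eq]
    have hH₁n : (K.comap (QuotientGroup.mk' N)).Normal := Subgroup.Normal.comap hKn _
    have hNH₁ : N ≤ K.comap (QuotientGroup.mk' N) := by
      intro n hn
      rw [Subgroup.mem_comap]
      have e1 : (QuotientGroup.mk' N) n = 1 := (QuotientGroup.eq_one_iff n).mpr hn
      rw [e1]
      exact K.one_mem
    have hH₁idx : (K.comap (QuotientGroup.mk' N)).index = p := by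
      rw [Subgroup.index_comap_of_surjective K (QuotientGroup.mk'_surjective N)]
      exact hKidx
    generalize K.comap (QuotientGroup.mk' N) = H₁ at hH₁n hNH₁ hH₁idx
    haveI := hH₁n
    haveI : Fintype ↥H₁ := Fintype.ofFinite _
    haveI : Fintype ↥(N.subgroupOf H₁) := Fintype.ofFinite _
    have hN₁idx : (N.subgroupOf H₁).index = p ^ j := by
      have e1 := Subgroup.relIndex_mul_index hNH₁
      rw [hH₁idx, hj, pow_succ] at e1
      exact Nat.eq_of_mul_eq_mul_right hp'.pos e1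
    have hN₁odd : Odd (N.subgroupOf H₁).index := by
      rw [hN₁idx]
      exact Odd.pow hpodd
    obtain ⟨ht1, ht2, ht3⟩ := transport (k := k) N H₁ hNH₁ hθ hθfix hinv
    obtain ⟨θ₁, hθ₁, hθ₁N, hθ₁fix⟩ := ih ↥H₁ k e (h.subgroup H₁) (N.subgroupOf H₁) hN₁idx
      hN₁odd (θ ∘ Subgroup.subgroupOfEquivOfLe hNH₁) ht1 ht2 ht3
    have hcon2 : classInner (fun n : N.subgroupOf H₁ => θ₁ n)
        (θ ∘ Subgroup.subgroupOfEquivOfLe hNH₁) ≠ 0 := by
      have e1 : (fun n : N.subgroupOf H₁ => θ₁ n) = θ ∘ Subgroup.subgroupOfEquivOfLe hNH₁ :=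
        funext hθ₁N
      rw [e1, classInner_irr_self ht1]
      exact one_ne_zero
    have hθ₁G : ∀ (g : G) (x : H₁), θ₁ ⟨g * x * g⁻¹, hH₁n.conj_mem x x.2 g⟩ = θ₁ x := by
      intro g
      have hconj_irr : IsIrrCharacter H₁ (conjChar H₁ θ₁ g) := conjChar_irr H₁ hθ₁ g
      have hconj_fix : ∀ x : H₁, conjChar H₁ θ₁ g (x ^ k) = conjChar H₁ θ₁ g x := by
        intro x
        have e1 : (⟨g * ((x ^ k : H₁) : G) * g⁻¹, hH₁n.conj_mem _ (x ^ k).2 g⟩ : H₁) =
            (⟨g * x * g⁻¹, hH₁n.conj_mem x x.2 g⟩ : H₁) ^ k := by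
          apply Subtype.ext
          simp only [Subgroup.coe_pow]
          rw [conj_pow]
        show θ₁ _ = θ₁ _
        rw [e1, hθ₁fix]
      have hconj_res : ∀ n : N.subgroupOf H₁, conjChar H₁ θ₁ g (n : H₁) =
          (θ ∘ Subgroup.subgroupOfEquivOfLe hNH₁) n := by
        intro n
        have hmem : g * ((n : H₁) : G) * g⁻¹ ∈ N :=
          hN.conj_mem _ (Subgroup.mem_subgroupOf.mp n.2) g
        have e1 := hθ₁N ⟨⟨g * ((n : H₁) : G) * g⁻¹, hNH₁ hmem⟩, Subgroup.mem_subgroupOf.mpr hmem⟩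
        have e2 := hinv g (Subgroup.subgroupOfEquivOfLe hNH₁ n)
        show θ₁ ⟨g * ((n : H₁) : G) * g⁻¹, _⟩ = θ (Subgroup.subgroupOfEquivOfLe hNH₁ n)
        rw [← e2]
        exact e1
      have hcon1 : classInner (fun n : N.subgroupOf H₁ => conjChar H₁ θ₁ g n)
          (θ ∘ Subgroup.subgroupOfEquivOfLe hNH₁) ≠ 0 := by
        have e1 : (fun n : N.subgroupOf H₁ => conjChar H₁ θ₁ g n) =
            θ ∘ Subgroup.subgroupOfEquivOfLe hNH₁ := funext hconj_res
        rw [e1, classInner_irr_self ht1]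
        exact one_ne_zero
      have huniq := unique_fixed (h.subgroup H₁) (N.subgroupOf H₁) hN₁odd ht1 hθ₁ hconj_irr
        hcon2 hcon1 hθ₁fix hconj_fix
      intro x
      exact congrFun huniq x
    have hcyc : IsCyclic (G ⧸ H₁) := by
      have e1 : Nat.card (G ⧸ H₁) = p := by
        rw [← Subgroup.index_eq_card]
        exact hH₁idx
      exact isCyclic_of_prime_card e1
    obtain ⟨η, hη, hηH₁⟩ := Cfsg.Agent.S0886.result H₁ hcyc θ₁ hθ₁ hθ₁G
    have hH₁odd : Odd H₁.index := by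
      rw [hH₁idx]
      exact hpodd
    obtain ⟨χ, hχ, hχH₁, hχfix⟩ := fixed_ext_of_ext h H₁ hH₁odd hθ₁ hθ₁fix hη hηH₁
    refine ⟨χ, hχ, ?_, hχfix⟩
    intro n
    have e1 := hχH₁ ⟨n, hNH₁ n.2⟩
    have e2 := hθ₁N ⟨⟨n, hNH₁ n.2⟩, Subgroup.mem_subgroupOf.mpr n.2⟩
    exact e1.trans (e2.trans (transport_apply N H₁ hNH₁ θ n))

/-- A fixed invariant character of a normal subgroup of odd index has a fixed extension. -/
theorem exists_fixed_ext {G : Type u} [Group G] [Fintype G] {k e : ℕ} (h : SigHyp G k e)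
    (N : Subgroup G) [hN : N.Normal] [Fintype N] (hidx : Odd N.index) {θ : N → ℂ}
    (hθ : IsIrrCharacter N θ) (hθfix : ∀ n : N, θ (n ^ k) = θ n)
    (hinv : ∀ (g : G) (n : N), θ ⟨g * n * g⁻¹, hN.conj_mem n n.2 g⟩ = θ n) :
    ∃ χ : G → ℂ, IsIrrCharacter G χ ∧ (∀ n : N, χ n = θ n) ∧ ∀ g, χ (g ^ k) = χ g := by
  classical
  have hsyl : ∀ p : ℕ, p.Prime → ∃ (P : Subgroup G) (hNP : N ≤ P) (η : P → ℂ),
      Nat.Coprime P.index p ∧ (∃ k : ℕ, N.relIndex P = p ^ k) ∧ IsIrrCharacter P η ∧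
        ∀ n : N, η ⟨(n : G), hNP n.2⟩ = θ n := by
    intro p hp
    haveI : Fact p.Prime := ⟨hp⟩
    obtain ⟨S⟩ : Nonempty (Sylow p (G ⧸ N)) := inferInstance
    have hNP : N ≤ (S : Subgroup (G ⧸ N)).comap (QuotientGroup.mk' N) := by
      intro n hn
      rw [Subgroup.mem_comap]
      have e1 : (QuotientGroup.mk' N) n = 1 := (QuotientGroup.eq_one_iff n).mpr hn
      rw [e1]
      exact (S : Subgroup (G ⧸ N)).one_mem
    have hPidx : ((S : Subgroup (G ⧸ N)).comap (QuotientGroup.mk' N)).index =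
        (S : Subgroup (G ⧸ N)).index :=
      Subgroup.index_comap_of_surjective _ (QuotientGroup.mk'_surjective N)
    have hSidx : Nat.Coprime (S : Subgroup (G ⧸ N)).index p :=
      (Nat.Coprime.symm ((Nat.Prime.coprime_iff_not_dvd hp).mpr S.not_dvd_index))
    obtain ⟨j, hj⟩ : ∃ j, Nat.card (S : Subgroup (G ⧸ N)) = p ^ j :=
      IsPGroup.iff_card.mp S.isPGroup'
    have hScard := Subgroup.card_mul_index (S : Subgroup (G ⧸ N))
    rw [← Subgroup.index_eq_card N] at hScard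
    have hSpos : 0 < (S : Subgroup (G ⧸ N)).index := Nat.pos_of_ne_zero Subgroup.index_ne_zero_of_finite
    generalize (S : Subgroup (G ⧸ N)).comap (QuotientGroup.mk' N) = P at hNP hPidx
    have hrel : N.relIndex P = p ^ j := by
      have e1 := Subgroup.relIndex_mul_index hNP
      rw [hPidx, ← hScard] at e1
      rw [← hj]
      exact Nat.eq_of_mul_eq_mul_right hSpos e1
    haveI : Fintype ↥P := Fintype.ofFinite _
    haveI : Fintype ↥(N.subgroupOf P) := Fintype.ofFinite _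
    have hodd1 : Odd (N.subgroupOf P).index :=
      Odd.of_dvd_nat hidx (Subgroup.relIndex_dvd_index_of_le hNP)
    obtain ⟨ht1, ht2, ht3⟩ := transport (k := k) N P hNP hθ hθfix hinv
    obtain ⟨χ₁, hχ₁, hχ₁N, -⟩ := exists_fixed_ext_pgroup p j ↥P k e (h.subgroup P)
      (N.subgroupOf P) hrel hodd1 (θ ∘ Subgroup.subgroupOfEquivOfLe hNP) ht1 ht2 ht3
    refine ⟨P, hNP, χ₁, ?_, ⟨j, hrel⟩, hχ₁, ?_⟩
    · rw [hPidx]
      exact hSidx
    · intro n
      have e2 := hχ₁N ⟨⟨n, hNP n.2⟩, Subgroup.mem_subgroupOf.mpr n.2⟩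
      exact e2.trans (transport_apply N P hNP θ n)
  obtain ⟨η, hη, hηN⟩ := Cfsg.Agent.S0888.result N θ hθ hinv hsyl
  exact fixed_ext_of_ext h N hidx hθ hθfix hη hηN

/-- The main theorem. -/
theorem main {G : Type u} [Group G] [Fintype G] (N : Subgroup G) [hN : N.Normal] [Fintype N]
    (hidx : Odd N.index) (k e : ℕ) (h : SigHyp G k e) (θ : IrrCharacter N)
    (hθ : ∀ n : N, (θ : N → ℂ) (n ^ k) = (θ : N → ℂ) n) :
    ∃ χ : IrrCharacter G, (classInner (fun n : N => (χ : G → ℂ) n) (θ : N → ℂ) ≠ 0 ∧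
      (∀ g : G, (χ : G → ℂ) (g ^ k) = (χ : G → ℂ) g) ∧
      ((∀ g : G, ∀ n : N, (θ : N → ℂ) ⟨g * n * g⁻¹, hN.conj_mem n n.2 g⟩ = (θ : N → ℂ) n) →
        ∀ n : N, (χ : G → ℂ) n = (θ : N → ℂ) n)) ∧
      ∀ χ' : IrrCharacter G, classInner (fun n : N => (χ' : G → ℂ) n) (θ : N → ℂ) ≠ 0 →
        (∀ g : G, (χ' : G → ℂ) (g ^ k) = (χ' : G → ℂ) g) → χ' = χ := by
  by_cases hinv : ∀ g : G, ∀ n : N,
      (θ : N → ℂ) ⟨g * n * g⁻¹, hN.conj_mem n n.2 g⟩ = (θ : N → ℂ) n
  · obtain ⟨χ, hχ, hχN, hχfix⟩ := exists_fixed_ext h N hidx θ.2 hθ hinv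
    have hc : classInner (fun n : N => χ n) (θ : N → ℂ) ≠ 0 := by
      have e1 : (fun n : N => χ n) = (θ : N → ℂ) := funext hχN
      rw [e1, classInner_irr_self θ.2]
      exact one_ne_zero
    refine ⟨⟨χ, hχ⟩, ⟨hc, hχfix, fun _ => hχN⟩, ?_⟩
    intro χ' hc' hfix'
    apply Subtype.ext
    exact unique_fixed h N hidx θ.2 hχ χ'.2 hc hc' hχfix hfix'
  · obtain ⟨χ, hc, hfix⟩ := exists_fixed h N hidx θ.2 hθ
    refine ⟨χ, ⟨hc, hfix, fun hi => absurd hi hinv⟩, ?_⟩
    intro χ' hc' hfix'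
    apply Subtype.ext
    exact unique_fixed h N hidx θ.2 χ.2 χ'.2 hc hc' hfix hfix'

end Cfsg.Agent.Lib.Helper6.SigFix
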