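import Mathlib
import Cfsg.Agent.Lib.Helper6.TIPrime1
import Cfsg.Agent.Lib.Helper6.TIPrime2
import Cfsg.Agent.Lib.Helper24.Defect

set_option autoImplicit false

/-!
# Exceptional characters for a self-centralizing subgroup of prime order
-/

namespace Cfsg.Agent.Lib.Helper6.TIPrime

open Cfsg Cfsg.Agent.Lib.Helper1
open scoped ComplexConjugate

universe u

variable {G : Type u} [Group G] [Fintype G] {P : Subgroup G} {p e : ℕ}

omit [Fintype G] in
theorem mult_nat (P : Subgroup G) [Fintype P] (ψ : IrrCharacter G) (lam : IrrCharacter P) :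
    ∃ n : ℕ, mult P (ψ : G → ℂ) (lam : P → ℂ) = (n : ℂ) :=
  IsCharacter.classInner_irr_nat (IsCharacter.restrict (IsIrrCharacter.isCharacter ψ.2) P) lam.2

/-- The restriction multiplicity as an integer. -/
noncomputable def mulZ (P : Subgroup G) [Fintype P] (lam : IrrCharacter P) (ψ : IrrCharacter G) :
    ℤ :=
  ((mult_nat P ψ lam).choose : ℤ)

omit [Fintype G] in
theorem mulZ_spec (P : Subgroup G) [Fintype P] (lam : IrrCharacter P) (ψ : IrrCharacter G) :
    ((mulZ P lam ψ : ℤ) : ℂ) = mult P (ψ : G → ℂ) (lam : P → ℂ) := by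
  have h := (mult_nat P ψ lam).choose_spec
  rw [mulZ]
  push_cast
  exact h.symm

omit [Fintype G] in
theorem mulZ_nonneg (P : Subgroup G) [Fintype P] (lam : IrrCharacter P) (ψ : IrrCharacter G) :
    0 ≤ mulZ P lam ψ := by
  rw [mulZ]; positivity

theorem TIHyp.gramZ (h : TIHyp P p e) [Fintype P] [Fintype (IrrCharacter G)]
    (lam mu : IrrCharacter P) :
    ((∑ ψ : IrrCharacter G, mulZ P lam ψ * mulZ P mu ψ : ℤ) : ℂ) =
      ((Nat.card G : ℂ) - ((p * e : ℕ) : ℂ)) / (p : ℂ) ^ 2 +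
        (kk P (lam : P → ℂ) (mu : P → ℂ) : ℂ) / p := by
  rw [← h.gram' lam.2 mu.2]
  push_cast
  refine Finset.sum_congr rfl fun ψ _ => ?_
  rw [mulZ_spec, mulZ_spec, ← mulZ_spec P mu ψ]
  simp

omit [Fintype G] in
theorem deg_nat (ψ : IrrCharacter G) : (ψ : G → ℂ) 1 = ((charDegree (ψ : G → ℂ) : ℤ) : ℂ) := by
  rw [Cfsg.Agent.Lib.Helper24.CharBasic.char_one_nat
    (Cfsg.Agent.Lib.Helper24.CharBasic.isCharacter_of_irr ψ.2)]
  simp

theorem TIHyp.sum_deg (h : TIHyp P p e) [Fintype P] [Fintype (IrrCharacter G)]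
    (lam : IrrCharacter P) :
    ((∑ ψ : IrrCharacter G, (charDegree (ψ : G → ℂ) : ℤ) * mulZ P lam ψ : ℤ) : ℂ) =
      (Nat.card G : ℂ) / p := by
  classical
  have hp0 : (p : ℂ) ≠ 0 := by exact_mod_cast h.prime.ne_zero
  push_cast
  have h1 : ∀ ψ : IrrCharacter G, ((charDegree (ψ : G → ℂ) : ℕ) : ℂ) * ((mulZ P lam ψ : ℤ) : ℂ) =
      (p : ℂ)⁻¹ * ∑ x : P, conj ((lam : P → ℂ) x) * ((ψ : G → ℂ) x * conj ((ψ : G → ℂ) 1)) := by
    intro ψ
    rw [mulZ_spec, mult, classInner, h.card, deg_nat]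
    simp only [Int.cast_natCast, map_natCast]
    rw [Finset.mul_sum, Finset.mul_sum, Finset.mul_sum]
    refine Finset.sum_congr rfl fun x _ => ?_
    ring
  rw [Finset.sum_congr rfl fun ψ _ => h1 ψ, ← Finset.mul_sum, Finset.sum_comm]
  have h2 : ∀ x : P, ∑ ψ : IrrCharacter G,
      conj ((lam : P → ℂ) x) * ((ψ : G → ℂ) x * conj ((ψ : G → ℂ) 1)) =
      if x = 1 then (Nat.card G : ℂ) else 0 := by
    intro x
    rw [← Finset.mul_sum, col_orth]
    by_cases hx1 : x = 1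
    · subst hx1
      have hcent : Subgroup.centralizer ({((1 : P) : G)} : Set G) = ⊤ := by
        ext g; simp [Subgroup.mem_centralizer_iff]
      rw [if_pos rfl, if_pos (by simp), hcent, Subgroup.card_top, h.irr_one lam.2]
      simp
    · rw [if_neg hx1, if_neg, mul_zero]
      intro hc
      apply hx1
      exact Subtype.ext (isConj_one_left.mp hc)
  rw [Finset.sum_congr rfl fun x _ => h2 x, Finset.sum_ite_eq', if_pos (Finset.mem_univ _)]
  field_simp

theorem TIHyp.deg_eq_sum (h : TIHyp P p e) [Fintype P] [Fintype (IrrCharacter P)]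
    (ψ : IrrCharacter G) :
    (charDegree (ψ : G → ℂ) : ℤ) = ∑ lam : IrrCharacter P, mulZ P lam ψ := by
  have hf : IsClassFunction P (fun x : P => (ψ : G → ℂ) x) := by
    intro g k
    have := IsIrrCharacter.isClassFunction ψ.2 (g : G) (k : G)
    simpa using this
  have h1 := congrFun (classFunction_expansion hf) 1
  rw [Finset.sum_apply] at h1
  have h2 : ∀ lam : IrrCharacter P,
      (classInner (fun x : P => (ψ : G → ℂ) x) (lam : P → ℂ) • (lam : P → ℂ)) 1 =
        ((mulZ P lam ψ : ℤ) : ℂ) := by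
    intro lam
    rw [Pi.smul_apply, h.irr_one lam.2, smul_eq_mul, mul_one, mulZ_spec]
    rfl
  rw [Finset.sum_congr rfl fun lam _ => h2 lam] at h1
  have h3 : ((charDegree (ψ : G → ℂ) : ℤ) : ℂ) = ((∑ lam : IrrCharacter P, mulZ P lam ψ : ℤ) : ℂ) := by
    rw [← deg_nat]
    push_cast
    exact h1
  exact_mod_cast h3

theorem TIHyp.card_irr (h : TIHyp P p e) [Fintype P] [Fintype (IrrCharacter P)] :
    Fintype.card (IrrCharacter P) = p := by
  classical
  have h1 := col_orth (G := P) 1 1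
  rw [if_pos (IsConj.refl _)] at h1
  have hcent : Subgroup.centralizer ({(1 : P)} : Set P) = ⊤ := by
    ext g; simp [Subgroup.mem_centralizer_iff]
  rw [hcent, Subgroup.card_top, h.card] at h1
  have h2 : ∀ χ ∈ (Finset.univ : Finset (IrrCharacter P)),
      (χ : P → ℂ) 1 * conj ((χ : P → ℂ) 1) = 1 := by
    intro χ _
    rw [h.irr_one χ.2]; simp
  rw [Finset.sum_congr rfl h2] at h1
  simp only [Finset.sum_const, Finset.card_univ, nsmul_eq_mul, mul_one] at h1
  exact_mod_cast h1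

/-- The trivial character. -/
noncomputable def triv (H : Type u) [Group H] [Fintype H] : IrrCharacter H :=
  ⟨fun _ => 1, isIrrCharacter_one⟩

theorem TIHyp.kk_one_one (h : TIHyp P p e) : kk P (fun _ => (1 : ℂ)) (fun _ => 1) = p * e := by
  classical
  unfold kk
  rw [← card_normalizer_filter h]
  congr 1
  ext n
  simp only [Finset.mem_filter, Finset.mem_univ, true_and, and_iff_left_iff_imp]
  intro hn
  funext x
  have hmem : n * (x : G) * n⁻¹ ∈ P := (Subgroup.mem_normalizer_iff.mp hn x).mp x.2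
  rw [cj, dif_pos hmem]

theorem kk_lam_one {lam : P → ℂ} (hne : lam ≠ fun _ => 1) :
    kk P lam (fun _ => 1) = 0 := by
  classical
  unfold kk
  rw [Finset.card_eq_zero, Finset.filter_eq_empty_iff]
  rintro n - ⟨hn, hn2⟩
  apply hne
  rw [← hn2]
  funext x
  have hmem : n * (x : G) * n⁻¹ ∈ P := (Subgroup.mem_normalizer_iff.mp hn x).mp x.2
  rw [cj, dif_pos hmem]

theorem TIHyp.kk_self (h : TIHyp P p e) {lam : P → ℂ} (hlam : IsIrrCharacter P lam)
    (hne : lam ≠ fun _ => 1) : kk P lam lam = p := by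
  classical
  have hpr := Fact.mk h.prime
  obtain ⟨L, hL⟩ := IsIrrCharacter.exists_monoidHom hlam (h.irr_one hlam)
  have hker : L.ker = ⊥ := by
    have : Fact (Nat.card P).Prime := ⟨by rw [h.card]; exact h.prime⟩
    rcases Subgroup.eq_bot_or_eq_top_of_prime_card L.ker with h1 | h1
    · exact h1
    · exfalso
      apply hne
      funext x
      have : x ∈ L.ker := by rw [h1]; trivial
      rw [hL x, MonoidHom.mem_ker.mp this]
      simp
  have hinj : Function.Injective L := (MonoidHom.ker_eq_bot_iff L).mp hker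
  have hnt : ∃ x₀ : P, x₀ ≠ 1 := by
    have h1 : 1 < Nat.card P := by rw [h.card]; exact h.prime.one_lt
    have : Nontrivial P := (Finite.one_lt_card_iff_nontrivial).mp h1
    exact exists_ne 1
  obtain ⟨x₀, hx₀⟩ := hnt
  have hset : Finset.univ.filter (fun n : G =>
      n ∈ Subgroup.normalizer (P : Set G) ∧ cj P n lam = lam) =
      Finset.univ.filter (fun n : G => n ∈ P) := by
    ext n
    simp only [Finset.mem_filter, Finset.mem_univ, true_and]
    constructor
    · rintro ⟨hn, hn2⟩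
      have hmem : n * (x₀ : G) * n⁻¹ ∈ P := (Subgroup.mem_normalizer_iff.mp hn x₀).mp x₀.2
      have h1 := congrFun hn2 x₀
      rw [cj, dif_pos hmem, hL, hL] at h1
      have h2 : (⟨n * (x₀ : G) * n⁻¹, hmem⟩ : P) = x₀ := hinj (Units.ext h1)
      have h3 : n * (x₀ : G) * n⁻¹ = x₀ := congrArg Subtype.val h2
      apply h.cent x₀ x₀.2 (fun h4 => hx₀ (Subtype.ext h4)) n
      calc n * (x₀ : G) = n * (x₀ : G) * n⁻¹ * n := by group
        _ = (x₀ : G) * n := by rw [h3]
    · intro hn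
      refine ⟨Subgroup.le_normalizer hn, ?_⟩
      funext x
      have hmem : n * (x : G) * n⁻¹ ∈ P := P.mul_mem (P.mul_mem hn x.2) (P.inv_mem hn)
      rw [cj, dif_pos hmem]
      congr 1
      apply Subtype.ext
      show n * (x : G) * n⁻¹ = x
      rw [h.comm n hn x x.2]
      group
  unfold kk
  rw [hset, ← h.card, Nat.card_eq_fintype_card, ← Fintype.card_subtype]

theorem TIHyp.kk_symm (h : TIHyp P p e) [Fintype P] [Fintype (IrrCharacter G)]
    (lam mu : IrrCharacter P) :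
    kk P (lam : P → ℂ) (mu : P → ℂ) = kk P (mu : P → ℂ) (lam : P → ℂ) := by
  have hp0 : (p : ℂ) ≠ 0 := by exact_mod_cast h.prime.ne_zero
  have h1 := h.gramZ lam mu
  have h2 := h.gramZ mu lam
  have h3 : (∑ ψ : IrrCharacter G, mulZ P lam ψ * mulZ P mu ψ) =
      ∑ ψ : IrrCharacter G, mulZ P mu ψ * mulZ P lam ψ :=
    Finset.sum_congr rfl fun ψ _ => mul_comm _ _
  rw [h3, h2] at h1
  have h4 : (kk P (mu : P → ℂ) (lam : P → ℂ) : ℂ) = (kk P (lam : P → ℂ) (mu : P → ℂ) : ℂ) := by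
    have := add_left_cancel h1
    field_simp at this
    exact this
  exact_mod_cast h4.symm

theorem TIHyp.normZ (h : TIHyp P p e) [Fintype P] [Fintype (IrrCharacter G)]
    (lam mu : IrrCharacter P) :
    (p : ℤ) * ∑ ψ : IrrCharacter G, (mulZ P lam ψ - mulZ P mu ψ) ^ 2 =
      (kk P (lam : P → ℂ) (lam : P → ℂ) : ℤ) + kk P (mu : P → ℂ) (mu : P → ℂ)
        - 2 * kk P (lam : P → ℂ) (mu : P → ℂ) := by
  have hp0 : (p : ℂ) ≠ 0 := by exact_mod_cast h.prime.ne_zero
  have h1 := h.gramZ lam mu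
  have h2 := h.gramZ lam lam
  have h3 := h.gramZ mu mu
  have h4 : ∑ ψ : IrrCharacter G, (mulZ P lam ψ - mulZ P mu ψ) ^ 2 =
      ∑ ψ : IrrCharacter G, mulZ P lam ψ * mulZ P lam ψ +
      ∑ ψ : IrrCharacter G, mulZ P mu ψ * mulZ P mu ψ -
      2 * ∑ ψ : IrrCharacter G, mulZ P lam ψ * mulZ P mu ψ := by
    rw [Finset.mul_sum, ← Finset.sum_add_distrib, ← Finset.sum_sub_distrib]
    refine Finset.sum_congr rfl fun ψ _ => ?_
    ring
  have h5 : (((p : ℤ) * ∑ ψ : IrrCharacter G, (mulZ P lam ψ - mulZ P mu ψ) ^ 2 : ℤ) : ℂ) =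
      (((kk P (lam : P → ℂ) (lam : P → ℂ) : ℤ) + kk P (mu : P → ℂ) (mu : P → ℂ)
        - 2 * kk P (lam : P → ℂ) (mu : P → ℂ) : ℤ) : ℂ) := by
    rw [h4]
    push_cast at h1 h2 h3 ⊢
    rw [h1, h2, h3]
    field_simp
    ring
  exact_mod_cast h5

omit [Fintype G] in
theorem triv_ne {lam : IrrCharacter P} [Fintype P] (hne : lam ≠ triv P) :
    (lam : P → ℂ) ≠ fun _ => 1 := fun h => hne (Subtype.ext h)

/-- For nontrivial `lam`, `mu`: the multiplicity vectors are equal (and `kk = p`) or differ by a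
vector of squared length `2` (and `kk = 0`). -/
theorem TIHyp.norm_cases (h : TIHyp P p e) [Fintype P] [Fintype (IrrCharacter G)]
    {lam mu : IrrCharacter P} (hl : lam ≠ triv P) (hm : mu ≠ triv P) :
    (∑ ψ : IrrCharacter G, (mulZ P lam ψ - mulZ P mu ψ) ^ 2 = 0 ∧
        kk P (lam : P → ℂ) (mu : P → ℂ) = p) ∨
      (∑ ψ : IrrCharacter G, (mulZ P lam ψ - mulZ P mu ψ) ^ 2 = 2 ∧
        kk P (lam : P → ℂ) (mu : P → ℂ) = 0) := by
  have h1 := h.normZ lam mu
  rw [h.kk_self lam.2 (triv_ne hl), h.kk_self mu.2 (triv_ne hm)] at h1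
  have hD : 0 ≤ ∑ ψ : IrrCharacter G, (mulZ P lam ψ - mulZ P mu ψ) ^ 2 :=
    Finset.sum_nonneg fun ψ _ => sq_nonneg _
  set D := ∑ ψ : IrrCharacter G, (mulZ P lam ψ - mulZ P mu ψ) ^ 2 with hDdef
  set k := kk P (lam : P → ℂ) (mu : P → ℂ) with hk
  have hp0 : 0 < p := h.prime.pos
  have hdvd : (p : ℤ) ∣ 2 * (k : ℤ) := ⟨2 - D, by linarith⟩
  have hdvd' : p ∣ 2 * k := by exact_mod_cast hdvd
  have hcop : Nat.Coprime p 2 := (Nat.coprime_primes h.prime Nat.prime_two).mpr h.odd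
  obtain ⟨j, hj⟩ := hcop.dvd_of_dvd_mul_left hdvd'
  have h2 : (p : ℤ) * D = (p : ℤ) * (2 - 2 * j) := by
    rw [h1, hj]; push_cast; ring
  have h3 : D = 2 - 2 * (j : ℤ) := by
    have hpz : (p : ℤ) ≠ 0 := by exact_mod_cast hp0.ne'
    exact mul_left_cancel₀ hpz h2
  have hj1 : j ≤ 1 := by omega
  interval_cases j
  · right
    exact ⟨by rw [h3]; norm_num, by rw [hj]; ring⟩
  · left
    exact ⟨by rw [h3]; norm_num, by rw [hj]; ring⟩

theorem TIHyp.norm_triv (h : TIHyp P p e) [Fintype P] [Fintype (IrrCharacter G)]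
    {lam : IrrCharacter P} (hl : lam ≠ triv P) :
    ∑ ψ : IrrCharacter G, (mulZ P (triv P) ψ - mulZ P lam ψ) ^ 2 = (e : ℤ) + 1 := by
  have h1 := h.normZ (triv P) lam
  have h2 : kk P ((triv P : IrrCharacter P) : P → ℂ) (lam : P → ℂ) = 0 := by
    rw [h.kk_symm]
    exact kk_lam_one (triv_ne hl)
  have h3 : kk P ((triv P : IrrCharacter P) : P → ℂ) ((triv P : IrrCharacter P) : P → ℂ) = p * e :=
    h.kk_one_one
  rw [h2, h3, h.kk_self lam.2 (triv_ne hl)] at h1
  have hpz : (p : ℤ) ≠ 0 := by exact_mod_cast h.prime.ne_zero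
  apply mul_left_cancel₀ hpz
  rw [h1]; push_cast; ring

theorem TIHyp.sum_kk (h : TIHyp P p e) [Fintype P] [Fintype (IrrCharacter G)]
    [Fintype (IrrCharacter P)] (lam : IrrCharacter P) :
    ∑ mu : IrrCharacter P, kk P (lam : P → ℂ) (mu : P → ℂ) = p * e := by
  have hp0 : (p : ℂ) ≠ 0 := by exact_mod_cast h.prime.ne_zero
  have h1 : ∑ mu : IrrCharacter P, ∑ ψ : IrrCharacter G, mulZ P lam ψ * mulZ P mu ψ =
      ∑ ψ : IrrCharacter G, (charDegree (ψ : G → ℂ) : ℤ) * mulZ P lam ψ := by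
    rw [Finset.sum_comm]
    refine Finset.sum_congr rfl fun ψ _ => ?_
    rw [← Finset.mul_sum, ← h.deg_eq_sum ψ, mul_comm]
  have h2 := congrArg (fun z : ℤ => (z : ℂ)) h1
  beta_reduce at h2
  rw [h.sum_deg lam, Int.cast_sum, Finset.sum_congr rfl fun mu _ => h.gramZ lam mu,
    Finset.sum_add_distrib, Finset.sum_const, Finset.card_univ, h.card_irr, ← Finset.sum_div] at h2
  have h3 : ((∑ mu : IrrCharacter P, kk P (lam : P → ℂ) (mu : P → ℂ) : ℕ) : ℂ) = ((p * e : ℕ) : ℂ) := by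
    push_cast
    push_cast at h2
    rw [nsmul_eq_mul] at h2
    have h4 : (p : ℂ) * (((Nat.card G : ℂ) - p * e) / (p : ℂ) ^ 2) =
        ((Nat.card G : ℂ) - p * e) / p := by
      field_simp
    rw [h4] at h2
    field_simp at h2
    linear_combination h2
  exact_mod_cast h3

/-- **Exceptional characters.**  Let `P` be a subgroup of odd prime order `p` of `G` whose
nonidentity elements have centralizer `P`, with `|N_G(P)| = p e` and `e < p - 1`.  Then there
are integers `c ψ` (`ψ ∈ Irr G`; the value of the non-exceptional `ψ` on `P \ 1`), a sign `ε`, a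
set `X` of `(p-1)/e` exceptional characters of common degree `d`, such that the listed
relations hold. -/
theorem TIHyp.exceptional (h : TIHyp P p e) [Fintype (IrrCharacter G)] (ht : e < p - 1) :
    ∃ (c : IrrCharacter G → ℤ) (ε : ℤ) (X : Finset (IrrCharacter G)) (d : ℤ),
      (ε = 1 ∨ ε = -1) ∧ X.card * e = p - 1 ∧
      (∀ χ ∈ X, (charDegree (χ : G → ℂ) : ℤ) = d) ∧
      (∀ χ ∈ X, ∑ ψ, c ψ ^ 2 - 2 * ε * c χ = e) ∧
      ∑ ψ : IrrCharacter G, (charDegree (ψ : G → ℂ) : ℤ) * c ψ = ε * d ∧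
      (∀ ψ, ψ ∉ X → (charDegree (ψ : G → ℂ) : ℤ) ≡ c ψ [ZMOD p]) ∧
      (∀ χ ∈ X, (charDegree (χ : G → ℂ) : ℤ) ≡ c χ + ε * e [ZMOD p]) ∧
      c (triv G) = 1 ∧ triv G ∉ X := by
  classical
  haveI : Fintype P := Fintype.ofFinite P
  haveI : Fintype (IrrCharacter P) := irrFintype
  have hp0 : (p : ℂ) ≠ 0 := by exact_mod_cast h.prime.ne_zero
  have hzero : ∀ lam mu : IrrCharacter P,
      ∑ ψ : IrrCharacter G, (mulZ P lam ψ - mulZ P mu ψ) ^ 2 = 0 →
      ∀ ψ, mulZ P lam ψ = mulZ P mu ψ := by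
    intro lam mu h0 ψ
    have := (Finset.sum_eq_zero_iff_of_nonneg
      (fun ψ _ => sq_nonneg (mulZ P lam ψ - mulZ P mu ψ))).mp h0 ψ (Finset.mem_univ _)
    have h3 : mulZ P lam ψ - mulZ P mu ψ = 0 := pow_eq_zero_iff (two_ne_zero) |>.mp this
    linarith
  refine structure_lemma (triv P) (mulZ P) (fun ψ => (charDegree (ψ : G → ℂ) : ℤ)) e p (triv G)
    ?_ ?_ ?_ ?_ ?_ ?_ ?_ h.card_irr ht
  · intro ψ
    have := (Cfsg.Agent.Lib.Helper24.Defect.charDegree_dvd_card ψ).2
    exact_mod_cast this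
  · intro a b ha hb
    rcases h.norm_cases ha hb with h1 | h1
    · exact Or.inl h1.1
    · exact Or.inr h1.1
  · intro a ha
    exact h.norm_triv ha
  · intro a ha
    have h1 := h.sum_kk a
    have h2 : ∀ mu : IrrCharacter P, kk P (a : P → ℂ) (mu : P → ℂ) =
        if (mu ≠ triv P ∧ ∀ ψ, mulZ P mu ψ = mulZ P a ψ) then p else 0 := by
      intro mu
      by_cases hmu : mu = triv P
      · rw [if_neg (fun hh => hh.1 hmu), hmu]
        exact kk_lam_one (triv_ne ha)
      · rcases h.norm_cases ha hmu with h3 | h3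
        · rw [if_pos ⟨hmu, fun ψ => (hzero a mu h3.1 ψ).symm⟩, h3.2]
        · rw [if_neg, h3.2]
          rintro ⟨-, h4⟩
          have h5 : ∑ ψ : IrrCharacter G, (mulZ P a ψ - mulZ P mu ψ) ^ 2 = 0 :=
            Finset.sum_eq_zero fun ψ _ => by rw [h4 ψ]; ring
          rw [h5] at h3
          exact absurd h3.1 (by norm_num)
    rw [Finset.sum_congr rfl fun mu _ => h2 mu, Finset.sum_ite, Finset.sum_const,
      Finset.sum_const_zero, add_zero, smul_eq_mul, mul_comm] at h1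
    exact Nat.eq_of_mul_eq_mul_left h.prime.pos h1
  · intro a b
    have h1 := h.sum_deg a
    have h2 := h.sum_deg b
    have h3 : ∑ ψ : IrrCharacter G, (charDegree (ψ : G → ℂ) : ℤ) * mulZ P a ψ =
        ∑ ψ : IrrCharacter G, (charDegree (ψ : G → ℂ) : ℤ) * mulZ P b ψ := by
      have : ((∑ ψ : IrrCharacter G, (charDegree (ψ : G → ℂ) : ℤ) * mulZ P a ψ : ℤ) : ℂ) =
          ((∑ ψ : IrrCharacter G, (charDegree (ψ : G → ℂ) : ℤ) * mulZ P b ψ : ℤ) : ℂ) := by
        rw [h1, h2]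
      exact_mod_cast this
    have h4 : ∀ ψ : IrrCharacter G, (charDegree (ψ : G → ℂ) : ℤ) * (mulZ P a ψ - mulZ P b ψ) =
        (charDegree (ψ : G → ℂ) : ℤ) * mulZ P a ψ - (charDegree (ψ : G → ℂ) : ℤ) * mulZ P b ψ :=
      fun ψ => by ring
    rw [Finset.sum_congr rfl fun ψ _ => h4 ψ, Finset.sum_sub_distrib, h3, sub_self]
  · intro ψ
    exact h.deg_eq_sum ψ
  · constructor
    · have h1 : ((mulZ P (triv P) (triv G) : ℤ) : ℂ) = ((1 : ℤ) : ℂ) := by
        rw [mulZ_spec]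
        have := classInner_irr_self (isIrrCharacter_one (G := P))
        simpa [mult, triv] using this
      exact_mod_cast h1
    · intro a ha
      have h1 : ((mulZ P a (triv G) : ℤ) : ℂ) = ((0 : ℤ) : ℂ) := by
        rw [mulZ_spec]
        have := classInner_irr_ne (isIrrCharacter_one (G := P)) a.2
          (fun hh => ha (Subtype.ext hh.symm))
        simpa [mult, triv] using this
      exact_mod_cast h1

end Cfsg.Agent.Lib.Helper6.TIPrime
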