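import Mathlib
import Cfsg.Agent.Lib.Helper6.TIPrime3
import Cfsg.Agent.Lib.Helper25.Codegree

set_option autoImplicit false

/-!
# Simple groups with a self-centralizing Sylow subgroup of prime order: numerical consequences
-/

namespace Cfsg.Agent.Lib.Helper6.TIPrime

open Cfsg Cfsg.Agent.Lib.Helper1
open scoped ComplexConjugate

universe u

variable {G : Type u} [Group G] [Fintype G] {P : Subgroup G} {p e : ℕ}

omit [Fintype G] in
theorem triv_degree [Fintype G] : charDegree ((triv G : IrrCharacter G) : G → ℂ) = 1 := by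
  simp [triv, charDegree]

/-- The refined structure when the number of exceptional characters is at least `e + 2`. -/
theorem TIHyp.endgame0 (h : TIHyp P p e) [Fintype (IrrCharacter G)] (ht : (e + 2) * e ≤ p - 1) :
    ∃ (c : IrrCharacter G → ℤ) (ε : ℤ) (X : Finset (IrrCharacter G)) (d : ℕ),
      (ε = 1 ∨ ε = -1) ∧ X.card * e = p - 1 ∧ (∀ χ ∈ X, charDegree (χ : G → ℂ) = d) ∧
      (∀ χ ∈ X, c χ = 0) ∧ ∑ ψ, c ψ ^ 2 = (e : ℤ) ∧
      ∑ ψ : IrrCharacter G, (charDegree (ψ : G → ℂ) : ℤ) * c ψ = ε * d ∧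
      (∀ ψ, c ψ ≠ 0 → (charDegree (ψ : G → ℂ) : ℤ) ≡ c ψ [ZMOD p]) ∧
      (d : ℤ) ≡ ε * e [ZMOD p] ∧ c (triv G) = 1 ∧ triv G ∉ X ∧ 0 < d ∧ d ∣ Nat.card G ∧
      (∀ ψ, ψ ∉ X → X.card * d ^ 2 + charDegree (ψ : G → ℂ) ^ 2 ≤ Nat.card G) := by
  classical
  have he0 : 0 < e := by
    rcases Nat.eq_zero_or_pos e with h0 | h0
    · have := h.norm
      rw [h0, mul_zero] at this
      have hpos : 0 < Nat.card (Subgroup.normalizer (P : Set G)) := Nat.card_pos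
      omega
    · exact h0
  have hlt : e < p - 1 := by nlinarith
  obtain ⟨c, ε, X, d', hε, hX, hdeg, hsq, hsum, hf, hg, hc1, h1X⟩ := h.exceptional hlt
  have htX : e + 2 ≤ X.card := by
    have : (e + 2) * e ≤ X.card * e := by rw [hX]; exact ht
    exact Nat.le_of_mul_le_mul_right this he0
  have hXne : X.Nonempty := Finset.card_pos.mp (by omega)
  obtain ⟨χ₁, hχ₁⟩ := hXne
  have hε0 : ε ≠ 0 := by rcases hε with h1 | h1 <;> rw [h1] <;> norm_num
  have hconst : ∀ χ ∈ X, c χ = c χ₁ := by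
    intro χ hχ
    have h1 := hsq χ hχ
    have h2 := hsq χ₁ hχ₁
    have h3 : ε * (c χ - c χ₁) = 0 := by linarith
    rcases mul_eq_zero.mp h3 with h4 | h4
    · exact absurd h4 hε0
    · linarith
  have hlow : 1 + (X.card : ℤ) * c χ₁ ^ 2 ≤ ∑ ψ, c ψ ^ 2 := by
    have h1 : ∑ ψ ∈ insert (triv G) X, c ψ ^ 2 ≤ ∑ ψ, c ψ ^ 2 :=
      Finset.sum_le_sum_of_subset_of_nonneg (Finset.subset_univ _) (fun _ _ _ => sq_nonneg _)
    rw [Finset.sum_insert h1X, hc1, Finset.sum_congr rfl fun χ hχ => by rw [hconst χ hχ],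
      Finset.sum_const, nsmul_eq_mul] at h1
    linarith
  have hc0 : c χ₁ = 0 := by
    by_contra hne
    have h2 := hsq χ₁ hχ₁
    have h3 : 1 ≤ c χ₁ ^ 2 := by
      have : c χ₁ ≠ 0 := hne
      have h4 : 0 < c χ₁ ^ 2 := by positivity
      omega
    have h5 : ((e : ℤ) + 2) ≤ (X.card : ℤ) := by exact_mod_cast htX
    have h6 : ((e : ℤ) + 2) * c χ₁ ^ 2 ≤ (X.card : ℤ) * c χ₁ ^ 2 :=
      mul_le_mul_of_nonneg_right h5 (by positivity)
    have he' : (0 : ℤ) < e := by exact_mod_cast he0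
    rcases hε with h1 | h1
    · rw [h1] at h2
      nlinarith [sq_nonneg (c χ₁ - 1)]
    · rw [h1] at h2
      nlinarith [sq_nonneg (c χ₁ + 1)]
  have hdpos := Cfsg.Agent.Lib.Helper24.Defect.charDegree_dvd_card χ₁
  have hd' : d' = (charDegree (χ₁ : G → ℂ) : ℤ) := (hdeg χ₁ hχ₁).symm
  refine ⟨c, ε, X, charDegree (χ₁ : G → ℂ), hε, hX, ?_, ?_, ?_, ?_, ?_, ?_, hc1, h1X, hdpos.2,
    hdpos.1, ?_⟩
  · intro χ hχ
    have := hdeg χ hχ
    rw [hd'] at this
    exact_mod_cast this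
  · intro χ hχ
    rw [hconst χ hχ, hc0]
  · have h2 := hsq χ₁ hχ₁
    rw [hc0] at h2
    linarith
  · rw [hsum, hd']
  · intro ψ hψ
    apply hf
    intro hψX
    apply hψ
    rw [hconst ψ hψX, hc0]
  · have := hg χ₁ hχ₁
    rw [hc0, zero_add] at this
    exact this
  · intro ψ hψ
    have h1 : ∑ χ ∈ insert ψ X, charDegree (χ : G → ℂ) ^ 2 ≤
        ∑ χ : IrrCharacter G, charDegree (χ : G → ℂ) ^ 2 :=
      Finset.sum_le_sum_of_subset (Finset.subset_univ _)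
    rw [Cfsg.Agent.Lib.Helper25.Codegree.sum_sq_nat, Finset.sum_insert hψ] at h1
    have h3 : ∀ χ ∈ X, charDegree (χ : G → ℂ) ^ 2 = charDegree (χ₁ : G → ℂ) ^ 2 := by
      intro χ hχ
      have := hdeg χ hχ
      rw [hd'] at this
      have h3 : charDegree (χ : G → ℂ) = charDegree (χ₁ : G → ℂ) := by exact_mod_cast this
      rw [h3]
    have h2 : ∑ χ ∈ X, charDegree (χ : G → ℂ) ^ 2 = X.card * charDegree (χ₁ : G → ℂ) ^ 2 := by
      rw [Finset.sum_congr rfl h3, Finset.sum_const, smul_eq_mul]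
    rw [h2] at h1
    omega

theorem one_nonzero {I : Type*} [DecidableEq I] (R : Finset I) (c : I → ℤ)
    (h : ∑ ψ ∈ R, c ψ ^ 2 = 1) :
    ∃ ψ' ∈ R, (c ψ' = 1 ∨ c ψ' = -1) ∧ ∀ ψ ∈ R, ψ ≠ ψ' → c ψ = 0 := by
  have hex : ∃ ψ' ∈ R, c ψ' ≠ 0 := by
    by_contra hcon
    simp only [not_exists, not_and, not_not] at hcon
    rw [Finset.sum_eq_zero (fun ψ hψ => by rw [hcon ψ hψ]; norm_num)] at h
    norm_num at h
  obtain ⟨ψ', hψ', hne⟩ := hex
  have e1 := Finset.add_sum_erase R (fun ψ => c ψ ^ 2) hψ'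
  beta_reduce at e1
  have hrest : 0 ≤ ∑ ψ ∈ R.erase ψ', c ψ ^ 2 := Finset.sum_nonneg fun ψ _ => sq_nonneg _
  have h3 : 1 ≤ c ψ' ^ 2 := by
    have : 0 < c ψ' ^ 2 := by positivity
    omega
  have h4 : c ψ' ^ 2 = 1 := by linarith
  have h5 : ∑ ψ ∈ R.erase ψ', c ψ ^ 2 = 0 := by linarith
  refine ⟨ψ', hψ', ?_, ?_⟩
  · have : (c ψ' - 1) * (c ψ' + 1) = 0 := by nlinarith
    rcases mul_eq_zero.mp this with h6 | h6
    · left; linarith
    · right; linarith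
  · intro ψ hψ hne'
    have := (Finset.sum_eq_zero_iff_of_nonneg (fun ψ _ => sq_nonneg (c ψ))).mp h5 ψ
      (Finset.mem_erase.mpr ⟨hne', hψ⟩)
    exact pow_eq_zero_iff two_ne_zero |>.mp this

theorem two_nonzero {I : Type*} [DecidableEq I] (R : Finset I) (c : I → ℤ)
    (h : ∑ ψ ∈ R, c ψ ^ 2 = 2) :
    ∃ ψ₁ ∈ R, ∃ ψ₂ ∈ R, ψ₁ ≠ ψ₂ ∧ (c ψ₁ = 1 ∨ c ψ₁ = -1) ∧ (c ψ₂ = 1 ∨ c ψ₂ = -1) ∧
      ∀ ψ ∈ R, ψ ≠ ψ₁ → ψ ≠ ψ₂ → c ψ = 0 := by
  have hex : ∃ ψ' ∈ R, c ψ' ≠ 0 := by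
    by_contra hcon
    simp only [not_exists, not_and, not_not] at hcon
    rw [Finset.sum_eq_zero (fun ψ hψ => by rw [hcon ψ hψ]; norm_num)] at h
    norm_num at h
  obtain ⟨ψ₁, hψ₁, hne⟩ := hex
  have e1 := Finset.add_sum_erase R (fun ψ => c ψ ^ 2) hψ₁
  beta_reduce at e1
  have hrest : 0 ≤ ∑ ψ ∈ R.erase ψ₁, c ψ ^ 2 := Finset.sum_nonneg fun ψ _ => sq_nonneg _
  have h3 : 1 ≤ c ψ₁ ^ 2 := by
    have : 0 < c ψ₁ ^ 2 := by positivity
    omega
  have h4 : c ψ₁ ^ 2 ≤ 2 := by linarith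
  have hub : c ψ₁ ≤ 1 := by nlinarith
  have hlb : -1 ≤ c ψ₁ := by nlinarith
  have h6 : c ψ₁ = 1 ∨ c ψ₁ = -1 := by omega
  have h7 : c ψ₁ ^ 2 = 1 := by rcases h6 with h6 | h6 <;> rw [h6] <;> norm_num
  have h5 : ∑ ψ ∈ R.erase ψ₁, c ψ ^ 2 = 1 := by linarith
  obtain ⟨ψ₂, hψ₂, h8, h9⟩ := one_nonzero (R.erase ψ₁) c h5
  rw [Finset.mem_erase] at hψ₂
  refine ⟨ψ₁, hψ₁, ψ₂, hψ₂.2, hψ₂.1.symm, h6, h8, ?_⟩
  intro ψ hψ hn1 hn2
  exact h9 ψ (Finset.mem_erase.mpr ⟨hn1, hψ⟩) hn2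

/-- The case `e = 2`. -/
theorem TIHyp.endgame2 (h : TIHyp P p 2) [Fintype (IrrCharacter G)] (ht : 9 ≤ p) :
    ∃ (d a : ℕ) (ε δ : ℤ) (ψ' : IrrCharacter G), (ε = 1 ∨ ε = -1) ∧ (δ = 1 ∨ δ = -1) ∧
      ψ' ≠ triv G ∧ charDegree (ψ' : G → ℂ) = a ∧ 0 < d ∧ d ∣ Nat.card G ∧ a ∣ Nat.card G ∧
      (p - 1) / 2 * d ^ 2 + a ^ 2 ≤ Nat.card G ∧ (d : ℤ) ≡ ε * 2 [ZMOD p] ∧
      (a : ℤ) ≡ δ [ZMOD p] ∧ 1 + δ * a = ε * d := by
  classical
  obtain ⟨c, ε, X, d, hε, hX, hdeg, hcX, hsq, hsum, hf, hg, hc1, h1X, hd0, hdvd, hbound⟩ :=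
    h.endgame0 (by omega)
  have hXcard : X.card = (p - 1) / 2 := by omega
  have e1 := Finset.add_sum_erase Finset.univ (fun ψ => c ψ ^ 2) (Finset.mem_univ (triv G))
  beta_reduce at e1
  rw [hc1, hsq] at e1
  have hR : ∑ ψ ∈ Finset.univ.erase (triv G), c ψ ^ 2 = 1 := by push_cast at e1; linarith
  obtain ⟨ψ', hψ', hδ, hrest⟩ := one_nonzero _ c hR
  rw [Finset.mem_erase] at hψ'
  have hcne : c ψ' ≠ 0 := by rcases hδ with h1 | h1 <;> rw [h1] <;> norm_num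
  have hψX : ψ' ∉ X := fun hx => hcne (hcX ψ' hx)
  refine ⟨d, charDegree (ψ' : G → ℂ), ε, c ψ', ψ', hε, hδ, hψ'.1, rfl, hd0, hdvd,
    (Cfsg.Agent.Lib.Helper24.Defect.charDegree_dvd_card ψ').1, ?_, ?_, hf ψ' hcne, ?_⟩
  · rw [← hXcard]; exact hbound ψ' hψX
  · simpa using hg
  · rw [← hsum, ← Finset.sum_subset (Finset.subset_univ {triv G, ψ'}),
      Finset.sum_pair (Ne.symm hψ'.1), hc1, triv_degree]
    · push_cast; ring
    · intro x _ hx
      rw [Finset.mem_insert, Finset.mem_singleton, not_or] at hx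
      rw [hrest x (Finset.mem_erase.mpr ⟨hx.1, Finset.mem_univ _⟩) hx.2, mul_zero]

/-- The case `e = 3`. -/
theorem TIHyp.endgame3 (h : TIHyp P p 3) [Fintype (IrrCharacter G)] (ht : 16 ≤ p) :
    ∃ (d a b : ℕ) (ε δ₁ δ₂ : ℤ) (ψ₁ ψ₂ : IrrCharacter G), (ε = 1 ∨ ε = -1) ∧
      (δ₁ = 1 ∨ δ₁ = -1) ∧ (δ₂ = 1 ∨ δ₂ = -1) ∧ ψ₁ ≠ triv G ∧ ψ₂ ≠ triv G ∧
      charDegree (ψ₁ : G → ℂ) = a ∧ charDegree (ψ₂ : G → ℂ) = b ∧ 0 < d ∧ d ∣ Nat.card G ∧
      a ∣ Nat.card G ∧ b ∣ Nat.card G ∧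
      (p - 1) / 3 * d ^ 2 + a ^ 2 ≤ Nat.card G ∧ (p - 1) / 3 * d ^ 2 + b ^ 2 ≤ Nat.card G ∧
      (d : ℤ) ≡ ε * 3 [ZMOD p] ∧ (a : ℤ) ≡ δ₁ [ZMOD p] ∧ (b : ℤ) ≡ δ₂ [ZMOD p] ∧
      1 + δ₁ * a + δ₂ * b = ε * d := by
  classical
  obtain ⟨c, ε, X, d, hε, hX, hdeg, hcX, hsq, hsum, hf, hg, hc1, h1X, hd0, hdvd, hbound⟩ :=
    h.endgame0 (by omega)
  have hXcard : X.card = (p - 1) / 3 := by omega
  have e1 := Finset.add_sum_erase Finset.univ (fun ψ => c ψ ^ 2) (Finset.mem_univ (triv G))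
  beta_reduce at e1
  rw [hc1, hsq] at e1
  have hR : ∑ ψ ∈ Finset.univ.erase (triv G), c ψ ^ 2 = 2 := by push_cast at e1; linarith
  obtain ⟨ψ₁, hψ₁, ψ₂, hψ₂, hne, hδ₁, hδ₂, hrest⟩ := two_nonzero _ c hR
  rw [Finset.mem_erase] at hψ₁ hψ₂
  have hcne₁ : c ψ₁ ≠ 0 := by rcases hδ₁ with h1 | h1 <;> rw [h1] <;> norm_num
  have hcne₂ : c ψ₂ ≠ 0 := by rcases hδ₂ with h1 | h1 <;> rw [h1] <;> norm_num
  have hψX₁ : ψ₁ ∉ X := fun hx => hcne₁ (hcX ψ₁ hx)
  have hψX₂ : ψ₂ ∉ X := fun hx => hcne₂ (hcX ψ₂ hx)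
  refine ⟨d, charDegree (ψ₁ : G → ℂ), charDegree (ψ₂ : G → ℂ), ε, c ψ₁, c ψ₂, ψ₁, ψ₂, hε, hδ₁, hδ₂,
    hψ₁.1, hψ₂.1, rfl, rfl, hd0, hdvd,
    (Cfsg.Agent.Lib.Helper24.Defect.charDegree_dvd_card ψ₁).1,
    (Cfsg.Agent.Lib.Helper24.Defect.charDegree_dvd_card ψ₂).1, ?_, ?_, ?_, hf ψ₁ hcne₁,
    hf ψ₂ hcne₂, ?_⟩
  · rw [← hXcard]; exact hbound ψ₁ hψX₁
  · rw [← hXcard]; exact hbound ψ₂ hψX₂
  · simpa using hg
  · have hnot : triv G ∉ ({ψ₁, ψ₂} : Finset (IrrCharacter G)) := by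
      rw [Finset.mem_insert, Finset.mem_singleton, not_or]
      exact ⟨Ne.symm hψ₁.1, Ne.symm hψ₂.1⟩
    rw [← hsum, ← Finset.sum_subset (Finset.subset_univ (insert (triv G) {ψ₁, ψ₂})),
      Finset.sum_insert hnot, Finset.sum_pair hne, hc1, triv_degree]
    · push_cast; ring
    · intro x _ hx
      rw [Finset.mem_insert, Finset.mem_insert, Finset.mem_singleton, not_or, not_or] at hx
      rw [hrest x (Finset.mem_erase.mpr ⟨hx.1, Finset.mem_univ _⟩) hx.2.1 hx.2.2, mul_zero]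

/-- A nonabelian simple group has no nontrivial linear character. -/
theorem linear_trivial [IsSimpleGroup G] (hna : ∃ a b : G, a * b ≠ b * a) (ψ : IrrCharacter G)
    (h1 : charDegree (ψ : G → ℂ) = 1) : ψ = triv G := by
  have h2 : (ψ : G → ℂ) 1 = 1 := by rw [deg_nat, h1]; simp
  obtain ⟨L, hL⟩ := IsIrrCharacter.exists_monoidHom ψ.2 h2
  rcases (L.normal_ker).eq_bot_or_eq_top with hb | ht
  · exfalso
    obtain ⟨a, b, hab⟩ := hna
    apply hab
    apply (MonoidHom.ker_eq_bot_iff L).mp hb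
    rw [map_mul, map_mul, mul_comm]
  · apply Subtype.ext
    funext g
    have : g ∈ L.ker := by rw [ht]; trivial
    rw [hL g, MonoidHom.mem_ker.mp this]
    simp [triv]

/-- A simple group of order `p e m` (`p` an odd prime not dividing `e m`, `e` prime) in which the
only divisors of `e m` congruent to `1` modulo `p` are `1` and `m` has a Sylow `p`-subgroup
satisfying `TIHyp`, and is nonabelian. -/
theorem exists_tiHyp [IsSimpleGroup G] (p e m : ℕ) (hp : p.Prime) (hodd : p ≠ 2) (he : e.Prime)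
    (hcard : Nat.card G = p * (e * m)) (hpp : ¬ p ∣ e * m)
    (hsyl : ∀ n, n ∣ e * m → n % p = 1 → n = 1 ∨ n = m) :
    (∃ P : Subgroup G, TIHyp P p e) ∧ ∃ a b : G, a * b ≠ b * a := by
  classical
  have := Fact.mk hp
  have hGpos : 0 < Nat.card G := Nat.card_pos
  have hem0 : e * m ≠ 0 := by
    intro h0
    rw [h0, mul_zero] at hcard
    omega
  have hm0 : m ≠ 0 := fun h0 => hem0 (by rw [h0, mul_zero])
  obtain ⟨P⟩ : Nonempty (Sylow p G) := inferInstance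
  have hPcard : Nat.card (P : Subgroup G) = p := by
    rw [Sylow.card_eq_multiplicity, hcard, Nat.factorization_mul hp.ne_zero hem0,
      Finsupp.add_apply, hp.factorization_self, Nat.factorization_eq_zero_of_not_dvd hpp]
    simp
  -- no normal subgroup of order p
  have hnn : ∀ Q : Subgroup G, Nat.card Q = p → Q.Normal → False := by
    intro Q hQ hn
    rcases hn.eq_bot_or_eq_top with h1 | h1
    · rw [h1, Subgroup.card_bot] at hQ
      exact hp.one_lt.ne hQ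
    · rw [h1, Subgroup.card_top, hcard] at hQ
      have h2 : e * m = 1 := by
        have : p * (e * m) = p * 1 := by rw [hQ, mul_one]
        exact Nat.eq_of_mul_eq_mul_left hp.pos this
      have h3 : e = 1 := Nat.eq_one_of_mul_eq_one_right h2
      exact he.one_lt.ne' h3
  have hidx : (P : Subgroup G).index = e * m := by
    have h1 := (P : Subgroup G).index_mul_card
    rw [hPcard, hcard, mul_comm] at h1
    exact Nat.eq_of_mul_eq_mul_left hp.pos h1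
  have hmod : Nat.card (Sylow p G) % p = 1 := by
    have h1 := card_sylow_modEq_one p G
    rw [Nat.ModEq, Nat.mod_eq_of_lt hp.one_lt] at h1
    exact h1
  have hnm : Nat.card (Sylow p G) = m := by
    rcases hsyl _ (hidx ▸ P.card_dvd_index) hmod with h1 | h1
    · exfalso
      have : Subsingleton (Sylow p G) := (Nat.card_eq_one_iff_unique.mp h1).1
      exact hnn P hPcard (Sylow.normal_of_subsingleton P)
    · exact h1
  have hNcard : Nat.card (Subgroup.normalizer ((P : Subgroup G) : Set G)) = p * e := by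
    have h1 := (Subgroup.normalizer ((P : Subgroup G) : Set G)).index_mul_card
    have h0 : (Subgroup.normalizer ((P : Subgroup G) : Set G)).index = m := by
      rw [← hnm]; exact (Sylow.card_eq_index_normalizer P).symm
    rw [h0, hcard] at h1
    have h2 : m * Nat.card (Subgroup.normalizer ((P : Subgroup G) : Set G)) = m * (p * e) := by
      rw [h1]; ring
    exact Nat.eq_of_mul_eq_mul_left (Nat.pos_of_ne_zero hm0) h2
  have hcommP : ∀ x ∈ (P : Subgroup G), ∀ y ∈ (P : Subgroup G), x * y = y * x := by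
    intro x hx y hy
    have hc := isCyclic_of_prime_card (α := (P : Subgroup G)) hPcard
    let _ := IsCyclic.commGroup (α := (P : Subgroup G))
    exact congrArg Subtype.val (mul_comm (⟨x, hx⟩ : (P : Subgroup G)) ⟨y, hy⟩)
  have hPC : (P : Subgroup G) ≤ Subgroup.centralizer ((P : Subgroup G) : Set G) := by
    intro x hx
    rw [Subgroup.mem_centralizer_iff]
    intro y hy
    exact hcommP y hy x hx
  have hCN := Subgroup.centralizer_le_normalizer ((P : Subgroup G) : Set G)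
  have hCcard : Nat.card (Subgroup.centralizer ((P : Subgroup G) : Set G)) = p := by
    have h1 := Subgroup.card_dvd_of_le hPC
    have h2 := Subgroup.card_dvd_of_le hCN
    rw [hPcard] at h1
    rw [hNcard] at h2
    obtain ⟨j, hj⟩ := h1
    rw [hj] at h2
    have h3 : j ∣ e := Nat.dvd_of_mul_dvd_mul_left hp.pos h2
    rcases (Nat.dvd_prime he).mp h3 with h4 | h4
    · rw [hj, h4, mul_one]
    · exfalso
      have h5 : Subgroup.centralizer ((P : Subgroup G) : Set G) =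
          Subgroup.normalizer ((P : Subgroup G) : Set G) :=
        Subgroup.eq_of_le_of_card_ge hCN (by rw [hNcard, hj, h4])
      have h6 : Subgroup.normalizer ((P : Subgroup G) : Set G) ≤
          Subgroup.centralizer ((P : Subgroup G) : Set G) := by rw [h5]
      have hcompl := MonoidHom.ker_transferSylow_isComplement' P h6
      have h7 := hcompl.card_mul_card
      rcases (MonoidHom.normal_ker (MonoidHom.transferSylow P h6)).eq_bot_or_eq_top with h8 | h8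
      · rw [h8, Subgroup.card_bot, one_mul, hPcard, hcard] at h7
        have h2 : e * m = 1 := by
          have : p * (e * m) = p * 1 := by rw [← h7, mul_one]
          exact Nat.eq_of_mul_eq_mul_left hp.pos this
        exact he.one_lt.ne' (Nat.eq_one_of_mul_eq_one_right h2)
      · rw [h8, Subgroup.card_top, hPcard] at h7
        have : Nat.card G * p = Nat.card G * 1 := by rw [h7, mul_one]
        exact hp.one_lt.ne' (Nat.eq_of_mul_eq_mul_left hGpos this)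
  have hCP : Subgroup.centralizer ((P : Subgroup G) : Set G) = (P : Subgroup G) :=
    (Subgroup.eq_of_le_of_card_ge hPC (by rw [hCcard, hPcard])).symm
  refine ⟨⟨(P : Subgroup G), ⟨hp, hodd, hPcard, ?_, hNcard⟩⟩, ?_⟩
  · intro x hx hx1 g hg
    rw [← hCP, Subgroup.mem_centralizer_iff]
    intro z hz
    have h1 : (⟨x, hx⟩ : (P : Subgroup G)) ≠ 1 := fun h2 => hx1 (congrArg Subtype.val h2)
    have h2 := zpowers_eq_top_of_prime_card (G := (P : Subgroup G)) hPcard h1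
    have h3 : (⟨z, hz⟩ : (P : Subgroup G)) ∈ Subgroup.zpowers (⟨x, hx⟩ : (P : Subgroup G)) := by
      rw [h2]; trivial
    obtain ⟨k, hk⟩ := Subgroup.mem_zpowers_iff.mp h3
    have hk' : x ^ k = z := by simpa using congrArg Subtype.val hk
    rw [← hk']
    have hcomm : Commute g x := hg
    exact (hcomm.zpow_right k).eq.symm
  · by_contra hcon
    simp only [not_exists, not_not] at hcon
    apply hnn P hPcard
    constructor
    intro n hn g
    rw [hcon g n, mul_inv_cancel_right]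
    exact hn

end Cfsg.Agent.Lib.Helper6.TIPrime
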